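import Cfsg.Agent.Lib.SmithTyrer.Config
import Cfsg.Agent.Lib.PGroup.Basic

/-!
# A central extension by a group of order `p`

For a group with a non-cyclic abelian Sylow `p`-subgroup inverted in its normaliser, the cup
product of two independent characters of `P`, transferred to the group, is a 2-cocycle with a
central extension in which the new central element is a commutator.
-/

set_option autoImplicit false
set_option linter.style.haveILetI false
set_option linter.unusedSectionVars false

namespace Cfsg.Agent.SmithTyrer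

open scoped commutatorElement

universe u v

/-- A normalised 2-cocycle with trivial action. -/
structure TwoCocycle (G : Type u) [Group G] (A : Type v) [AddCommGroup A] where
  toFun : G → G → A
  cocycle : ∀ g h k, toFun g h + toFun (g * h) k = toFun h k + toFun g (h * k)
  one_left : ∀ h, toFun 1 h = 0
  one_right : ∀ g, toFun g 1 = 0

/-- The central extension defined by a 2-cocycle. -/
@[ext]
structure Ext {G : Type u} [Group G] {A : Type v} [AddCommGroup A] (c : TwoCocycle G A) where
  g : G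
  z : A

namespace Ext

variable {G : Type u} [Group G] {A : Type v} [AddCommGroup A] {c : TwoCocycle G A}

instance : One (Ext c) := ⟨⟨1, 0⟩⟩
instance : Mul (Ext c) := ⟨fun x y => ⟨x.g * y.g, x.z + y.z + c.toFun x.g y.g⟩⟩
instance : Inv (Ext c) := ⟨fun x => ⟨x.g⁻¹, -x.z - c.toFun x.g⁻¹ x.g⟩⟩

theorem one_g : (1 : Ext c).g = 1 := rfl
theorem one_z : (1 : Ext c).z = 0 := rfl
theorem mul_g (x y : Ext c) : (x * y).g = x.g * y.g := rfl
theorem mul_z (x y : Ext c) : (x * y).z = x.z + y.z + c.toFun x.g y.g := rfl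
theorem inv_g (x : Ext c) : x⁻¹.g = x.g⁻¹ := rfl
theorem inv_z (x : Ext c) : x⁻¹.z = -x.z - c.toFun x.g⁻¹ x.g := rfl

instance : Group (Ext c) :=
  Group.ofLeftAxioms
    (fun x y w => by
      ext
      · simp only [mul_g, mul_assoc]
      · simp only [mul_z, mul_g]
        rw [show x.z + y.z + c.toFun x.g y.g + w.z + c.toFun (x.g * y.g) w.g =
          x.z + y.z + w.z + (c.toFun x.g y.g + c.toFun (x.g * y.g) w.g) by abel, c.cocycle]
        abel)
    (fun x => by
      ext
      · simp only [mul_g, one_g, one_mul]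
      · simp only [mul_z, one_g, one_z, c.one_left]; abel)
    (fun x => by
      ext
      · simp only [mul_g, inv_g, one_g, inv_mul_cancel]
      · simp only [mul_z, inv_g, inv_z, one_z]; abel)

/-- The projection. -/
def proj : Ext c →* G where
  toFun x := x.g
  map_one' := rfl
  map_mul' _ _ := rfl

instance [Finite G] [Finite A] : Finite (Ext c) :=
  Finite.of_injective (fun x => (x.g, x.z)) fun x y e => by
    simp only [Prod.mk.injEq] at e
    exact Ext.ext e.1 e.2

end Ext

variable {G : Type u} [Group G] [Finite G] {p : ℕ} [hp : Fact p.Prime] {P : Sylow p G}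

/-- An additive character of a Sylow subgroup. -/
def IsAdd (f : ↥(P : Subgroup G) → ZMod p) : Prop := ∀ x y, f (x * y) = f x + f y

theorem IsAdd.map_one {f : ↥(P : Subgroup G) → ZMod p} (hf : IsAdd f) : f 1 = 0 := by
  simpa using hf 1 1

theorem IsAdd.map_inv {f : ↥(P : Subgroup G) → ZMod p} (hf : IsAdd f) (x : (P : Subgroup G)) :
    f x⁻¹ = -f x := eq_neg_of_add_eq_zero_left (by rw [← hf, inv_mul_cancel, hf.map_one])

theorem out_inv_mul_mem (g : G) (i : G ⧸ (P : Subgroup G)) :
    (g • i).out⁻¹ * (g * i.out) ∈ (P : Subgroup G) := by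
  refine QuotientGroup.eq.1 ?_
  rw [QuotientGroup.out_eq', ← smul_eq_mul, ← MulAction.Quotient.smul_mk, QuotientGroup.out_eq']

/-- The Schreier element of `g` at a coset. -/
noncomputable def schreier (g : G) (i : G ⧸ (P : Subgroup G)) : (P : Subgroup G) :=
  ⟨(g • i).out⁻¹ * (g * i.out), out_inv_mul_mem g i⟩

theorem schreier_mul (g h : G) (i : G ⧸ (P : Subgroup G)) :
    schreier (g * h) i = schreier g (h • i) * schreier h i := by
  apply Subtype.ext
  simp only [schreier, Subgroup.coe_mul, mul_smul]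
  group

theorem schreier_one (i : G ⧸ (P : Subgroup G)) : schreier (1 : G) i = 1 := by
  apply Subtype.ext
  simp [schreier]

section

variable [Fintype (G ⧸ (P : Subgroup G))]

/-- The transferred cup product of two additive characters. -/
noncomputable def cupTransfer (f₁ f₂ : ↥(P : Subgroup G) → ZMod p) (h₁ : IsAdd f₁)
    (h₂ : IsAdd f₂) : TwoCocycle G (ZMod p) where
  toFun g h := ∑ i : G ⧸ (P : Subgroup G), f₁ (schreier g (h • i)) * f₂ (schreier h i)
  cocycle g h k := by
    rw [← Equiv.sum_comp (MulAction.toPerm k)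
      fun i : G ⧸ (P : Subgroup G) => f₁ (schreier g (h • i)) * f₂ (schreier h i)]
    simp only [MulAction.toPerm_apply, ← Finset.sum_add_distrib]
    refine Finset.sum_congr rfl fun i _ => ?_
    rw [schreier_mul g h, schreier_mul h k, mul_smul, h₁, h₂]
    ring
  one_left h := Finset.sum_eq_zero fun i _ => by rw [schreier_one, h₁.map_one, zero_mul]
  one_right g := Finset.sum_eq_zero fun i _ => by rw [schreier_one, h₂.map_one, mul_zero]

variable (h : IsInvConfig P)
include h

theorem exists_sign (o : G ⧸ (P : Subgroup G)) :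
    ∃ e : ZMod p, e * e = 1 ∧ ∀ (f : ↥(P : Subgroup G) → ZMod p), IsAdd f →
      ∀ (r : (P : Subgroup G)) (hr : o.out⁻¹ * ((r : G) * o.out) ∈ (P : Subgroup G)),
        f ⟨_, hr⟩ = e * f r := by
  have hconj : ∀ x : G, o.out⁻¹ * x * (o.out⁻¹)⁻¹ = o.out⁻¹ * (x * o.out) := fun x => by
    rw [inv_inv, mul_assoc]
  set Q := (P : Subgroup G) ⊓
    (P : Subgroup G).comap (MulAut.conj (o.out⁻¹)).toMonoidHom with hQ
  have hmem : ∀ (r : (P : Subgroup G)),
      o.out⁻¹ * ((r : G) * o.out) ∈ (P : Subgroup G) → (r : G) ∈ Q := fun r hr =>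
    ⟨r.2, show o.out⁻¹ * (r : G) * (o.out⁻¹)⁻¹ ∈ (P : Subgroup G) by rw [hconj]; exact hr⟩
  rcases h.uniform_sign (Q := Q) inf_le_left (g := o.out⁻¹) (fun x hx => hx.2) with hs | hs
  · refine ⟨1, one_mul 1, fun f _ r hr => ?_⟩
    rw [one_mul]
    congr 1
    apply Subtype.ext
    show o.out⁻¹ * ((r : G) * o.out) = r
    rw [← hconj]
    exact hs _ (hmem r hr)
  · refine ⟨-1, by ring, fun f hf r hr => ?_⟩
    rw [neg_one_mul, ← hf.map_inv]
    congr 1
    apply Subtype.ext
    show o.out⁻¹ * ((r : G) * o.out) = (r : G)⁻¹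
    rw [← hconj]
    exact hs _ (hmem r hr)

/-- The values of the Schreier elements at elements of `P`, modulo coboundaries. -/
theorem exists_linear_form :
    ∃ ε : G ⧸ (P : Subgroup G) → ZMod p, (∀ i, ε i * ε i = 1) ∧
      (∀ (a : (P : Subgroup G)) i, ε ((a : G) • i) = ε i) ∧
      ∀ f : ↥(P : Subgroup G) → ZMod p, IsAdd f → ∃ U : G ⧸ (P : Subgroup G) → ZMod p,
        ∀ (a : (P : Subgroup G)) i,
          f (schreier (a : G) i) = ε i * f a + U i - U ((a : G) • i) := by
  classical
  let S := MulAction.orbitRel (P : Subgroup G) (G ⧸ (P : Subgroup G))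
  let r : G ⧸ (P : Subgroup G) → G ⧸ (P : Subgroup G) := fun i => (Quotient.mk S i).out
  have hr : ∀ i, ∃ u : (P : Subgroup G), (u : G) • r i = i := by
    intro i
    have h1 : S (r i) i := Quotient.mk_out i
    obtain ⟨u, hu⟩ := MulAction.orbitRel_apply.1 (Setoid.symm' S h1)
    exact ⟨u, hu⟩
  choose u hu using hr
  have hra : ∀ (a : (P : Subgroup G)) i, r ((a : G) • i) = r i := by
    intro a i
    refine congrArg Quotient.out (Quotient.sound (?_ : S ((a : G) • i) i))
    exact MulAction.orbitRel_apply.2 ⟨a, rfl⟩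
  choose e he1 he2 using exists_sign h
  refine ⟨fun i => e (r i), fun i => he1 _, fun a i => congrArg e (hra a i), fun f hf => ?_⟩
  have hw : ∀ i, (r i).out⁻¹ * (((u i : G))⁻¹ * i.out) ∈ (P : Subgroup G) := by
    intro i
    refine QuotientGroup.eq.1 ?_
    rw [QuotientGroup.out_eq', ← smul_eq_mul, ← MulAction.Quotient.smul_mk, QuotientGroup.out_eq',
      eq_inv_smul_iff]
    exact hu i
  let w : G ⧸ (P : Subgroup G) → (P : Subgroup G) := fun i => ⟨_, hw i⟩
  refine ⟨fun i => f (w i) + e (r i) * f (u i), fun a i => ?_⟩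
  set o := r i with ho
  set j := (a : G) • i with hj
  have hjo : r j = o := hra a i
  set t := (u j)⁻¹ * a * u i with ht
  have hto : o.out⁻¹ * ((t : G) * o.out) ∈ (P : Subgroup G) := by
    refine QuotientGroup.eq.1 ?_
    rw [QuotientGroup.out_eq', ← smul_eq_mul, ← MulAction.Quotient.smul_mk, QuotientGroup.out_eq',
      ht, Subgroup.coe_mul, Subgroup.coe_mul, Subgroup.coe_inv, mul_smul, mul_smul, hu i, ← hj,
      eq_inv_smul_iff, ← hjo, hu j]
  have key : schreier (a : G) i = (w j)⁻¹ * (⟨_, hto⟩ * w i) := by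
    apply Subtype.ext
    simp only [schreier, w, Subgroup.coe_mul, Subgroup.coe_inv, ht, ← hj, hjo, ← ho]
    group
  rw [key, hf, hf, hf.map_inv, he2 o f hf t hto, ht, hf, hf, hf.map_inv]
  simp only [hjo, ← ho]
  ring

/-- The commutator form of the transferred cup product on `P`. -/
theorem cupTransfer_sub (f₁ f₂ : ↥(P : Subgroup G) → ZMod p) (h₁ : IsAdd f₁) (h₂ : IsAdd f₂)
    (a b : (P : Subgroup G)) :
    (cupTransfer f₁ f₂ h₁ h₂).toFun a b - (cupTransfer f₁ f₂ h₁ h₂).toFun b a =
      ((P : Subgroup G).index : ZMod p) * (f₁ a * f₂ b - f₁ b * f₂ a) := by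
  obtain ⟨ε, hε, hεinv, hU⟩ := exists_linear_form h
  obtain ⟨U, hU1⟩ := hU f₁ h₁
  obtain ⟨W, hW1⟩ := hU f₂ h₂
  let R : ↥(P : Subgroup G) → ZMod p := fun x =>
    ∑ i : G ⧸ (P : Subgroup G), U ((x : G) • i) * W i
  have key : ∀ x y : (P : Subgroup G), (cupTransfer f₁ f₂ h₁ h₂).toFun x y =
      ((P : Subgroup G).index : ZMod p) * (f₁ x * f₂ y) + R x + R y - R 1 - R (x * y) := by
    intro x y
    have inv : ∀ (φ : G ⧸ (P : Subgroup G) → ZMod p) (z : (P : Subgroup G)),
        ∑ i, φ ((z : G) • i) = ∑ i, φ i := fun φ z => Equiv.sum_comp (MulAction.toPerm (z : G)) φ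
    have e1 : ∀ (φ : G ⧸ (P : Subgroup G) → ZMod p) (z : (P : Subgroup G)),
        ∑ i, ε i * φ ((z : G) • i) = ∑ i, ε i * φ i := fun φ z => by
      rw [← inv (fun i => ε i * φ i) z]
      exact Finset.sum_congr rfl fun i _ => by rw [hεinv]
    have e3 : ∀ z : (P : Subgroup G), ∑ i, U ((z : G) • ((y : G) • i)) * W ((y : G) • i) = R z :=
      fun z => inv (fun i => U ((z : G) • i) * W i) y
    have expand : ∀ i : G ⧸ (P : Subgroup G),
        f₁ (schreier (x : G) ((y : G) • i)) * f₂ (schreier (y : G) i) =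
          f₁ x * f₂ y + f₁ x * (ε i * W i - ε i * W ((y : G) • i)) +
          f₂ y * (ε i * U ((y : G) • i) - ε i * U (((x * y : (P : Subgroup G)) : G) • i)) +
          (U ((y : G) • i) * W i - U ((y : G) • i) * W ((y : G) • i) -
            U (((x * y : (P : Subgroup G)) : G) • i) * W i +
            U ((x : G) • ((y : G) • i)) * W ((y : G) • i)) := by
      intro i
      rw [hU1, hW1, hεinv, Subgroup.coe_mul, mul_smul]
      linear_combination (f₁ x * f₂ y) * hε i
    show ∑ i, f₁ (schreier (x : G) ((y : G) • i)) * f₂ (schreier (y : G) i) = _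
    rw [Finset.sum_congr rfl fun i _ => expand i]
    simp only [Finset.sum_add_distrib, Finset.sum_sub_distrib, ← Finset.mul_sum, e1, sub_self,
      mul_zero, add_zero, Finset.sum_const, nsmul_eq_mul, Finset.card_univ]
    rw [← Nat.card_eq_fintype_card, ← Subgroup.index_eq_card, e3]
    have e4 : ∑ i, U ((y : G) • i) * W ((y : G) • i) = R 1 := by
      rw [← e3 1]
      simp
    rw [e4]
    simp only [R]
    ring
  rw [key, key, h.comm.is_comm.comm a b]
  ring

end

theorem exists_add_ker {K : Subgroup (P : Subgroup G)} (hK : IsCoatom K) :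
    ∃ f : ↥(P : Subgroup G) → ZMod p, IsAdd f ∧ ∀ x, f x = 0 ↔ x ∈ K := by
  haveI := PGroup.normal_of_isCoatom P.isPGroup' hK
  have hidx : Nat.card ((P : Subgroup G) ⧸ K) = p := by
    rw [← Subgroup.index_eq_card]
    exact PGroup.index_of_isCoatom P.isPGroup' hK
  let e : ((P : Subgroup G) ⧸ K) ≃* Multiplicative (ZMod p) :=
    mulEquivOfPrimeCardEq (p := p) hidx (by rw [Nat.card_eq_fintype_card]; simp)
  refine ⟨fun x => Multiplicative.toAdd (e (x : (P : Subgroup G) ⧸ K)), fun x y => ?_, fun x => ?_⟩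
  · simp only [QuotientGroup.mk_mul, map_mul, toAdd_mul]
  · rw [toAdd_eq_zero, map_eq_one_iff e e.injective, QuotientGroup.eq_one_iff]

theorem exists_two_coatoms (hnc : ¬ IsCyclic (P : Subgroup G)) :
    ∃ K L : Subgroup (P : Subgroup G), IsCoatom K ∧ IsCoatom L ∧ K ≠ L := by
  have hnt : Nontrivial (P : Subgroup G) := by
    by_contra hn
    rw [not_nontrivial_iff_subsingleton] at hn
    exact hnc inferInstance
  obtain ⟨K, hK, -⟩ := (eq_top_or_exists_le_coatom (⊥ : Subgroup (P : Subgroup G))).resolve_left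
    bot_ne_top
  obtain ⟨x, hx⟩ : ∃ x, x ∉ K := by
    by_contra hc
    push Not at hc
    exact hK.1 ((Subgroup.eq_top_iff' K).2 hc)
  rcases eq_top_or_exists_le_coatom (Subgroup.zpowers x) with htop | ⟨L, hL, hxL⟩
  · exact absurd ⟨x, fun y => (htop.symm ▸ Subgroup.mem_top y : y ∈ Subgroup.zpowers x)⟩ hnc
  · exact ⟨K, L, hK, hL, fun e => hx (e ▸ hxL (Subgroup.mem_zpowers x))⟩

/-- The central extension. -/
theorem exists_central_extension (h : IsInvConfig P) :
    ∃ (E : Type u) (_ : Group E) (_ : Finite E) (π : E →* G) (z : E),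
      Function.Surjective π ∧ z ∈ Subgroup.center E ∧ orderOf z = p ∧
      π.ker = Subgroup.zpowers z ∧ z ∈ commutator E := by
  classical
  haveI : Fintype (G ⧸ (P : Subgroup G)) := Fintype.ofFinite _
  obtain ⟨K, L, hK, hL, hKL⟩ := exists_two_coatoms (P := P) h.noncyclic
  obtain ⟨f₁, h₁, k₁⟩ := exists_add_ker hK
  obtain ⟨f₂, h₂, k₂⟩ := exists_add_ker hL
  obtain ⟨a, haL, haK⟩ := SetLike.not_le_iff_exists.1
    (fun hle => hKL ((hL.le_iff.1 hle).resolve_left hK.1) : ¬ L ≤ K)
  obtain ⟨b, hbK, hbL⟩ := SetLike.not_le_iff_exists.1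
    (fun hle => hKL ((hK.le_iff.1 hle).resolve_left hL.1).symm : ¬ K ≤ L)
  set c := cupTransfer f₁ f₂ h₁ h₂ with hc
  set w : ZMod p := c.toFun a b - c.toFun b a with hw
  have hw0 : w ≠ 0 := by
    rw [hw, hc, cupTransfer_sub h f₁ f₂ h₁ h₂, (k₁ b).2 hbK, zero_mul, sub_zero]
    refine mul_ne_zero ?_ (mul_ne_zero (fun e => haK ((k₁ a).1 e)) (fun e => hbL ((k₂ b).1 e)))
    rw [Ne, ZMod.natCast_eq_zero_iff]
    exact P.not_dvd_index
  let z : Ext c := ⟨1, w⟩
  have hcen : z ∈ Subgroup.center (Ext c) := by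
    rw [Subgroup.mem_center_iff]
    intro x
    ext
    · simp [Ext.mul_g, z]
    · simp only [Ext.mul_z, z, c.one_left, c.one_right]
      abel
  have hpow : ∀ n : ℕ, z ^ n = ⟨1, n * w⟩ := by
    intro n
    induction n with
    | zero => ext <;> simp [Ext.one_g, Ext.one_z]
    | succ n ih =>
      rw [pow_succ, ih]
      ext
      · simp [Ext.mul_g, z]
      · simp only [Ext.mul_z, z, c.one_left]
        push_cast
        ring
  have hord : orderOf z = p := by
    refine orderOf_eq_prime ?_ fun e => hw0 (congrArg Ext.z e)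
    rw [hpow]
    ext <;> simp [Ext.one_g, Ext.one_z]
  refine ⟨Ext c, inferInstance, inferInstance, Ext.proj, z, fun g => ⟨⟨g, 0⟩, rfl⟩, hcen, hord,
    ?_, ?_⟩
  · ext x
    constructor
    · intro hx
      have hxg : x.g = 1 := hx
      refine Subgroup.mem_zpowers_iff.2 ⟨((x.z / w).val : ℕ), ?_⟩
      rw [zpow_natCast, hpow]
      ext
      · exact hxg.symm
      · show (((x.z / w).val : ℕ) : ZMod p) * w = x.z
        rw [ZMod.natCast_zmod_val, div_mul_cancel₀ _ hw0]
    · exact fun hx => (Subgroup.zpowers_le.2 (show Ext.proj z = 1 from rfl)) hx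
  · set A : Ext c := ⟨(a : G), 0⟩
    set B : Ext c := ⟨(b : G), 0⟩
    have hAB : z * (B * A) = A * B := by
      have hab : (b : G) * (a : G) = (a : G) * (b : G) := mul_comm_of_mem h.comm b.2 a.2
      ext
      · simp [Ext.mul_g, z, A, B, hab]
      · simp only [Ext.mul_z, Ext.mul_g, z, A, B, c.one_left, hw]
        ring
    have hcomm : z = ⁅A, B⁆ := by
      rw [commutatorElement_def, ← hAB]
      group
    rw [hcomm, commutator_def]
    exact Subgroup.commutator_mem_commutator (Subgroup.mem_top A) (Subgroup.mem_top B)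

end Cfsg.Agent.SmithTyrer
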