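import Cfsg.Agent.Lib.SmithTyrer.Extension
import Cfsg.Agent.Lib.SmithTyrer.Cocycle
import Cfsg.Agent.Lib.CharInt.Kazarin
import Cfsg.Agent.Lib.PCore.PLength

/-!
# Abelian Sylow subgroups with inertial index two: the theorem

A group whose abelian non-cyclic Sylow `p`-subgroup (`p` odd) is inverted in its normaliser has
`p`-length one.
-/

set_option autoImplicit false
set_option linter.style.haveILetI false
set_option linter.unusedSectionVars false

namespace Cfsg.Agent.SmithTyrer

universe u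

variable {p : ℕ} [hp : Fact p.Prime]

theorem exists_orderOf_eq_two {G : Type u} [Group G] [Finite G] {P : Sylow p G}
    (h : IsInvConfig P) (hodd : p ≠ 2) : ∃ t : G, orderOf t = 2 := by
  obtain ⟨g, hg⟩ := h.inverter
  have hcent : g ^ 2 ∈ Subgroup.centralizer ((P : Subgroup G) : Set G) := by
    rw [Subgroup.mem_centralizer_iff]
    intro x hx
    have h1 : g ^ 2 * x * (g ^ 2)⁻¹ = x := by
      rw [show g ^ 2 * x * (g ^ 2)⁻¹ = g * (g * x * g⁻¹) * g⁻¹ by rw [pow_two]; group, hg x hx,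
        hg x⁻¹ (inv_mem hx), inv_inv]
    exact (mul_inv_eq_iff_eq_mul.1 h1).symm
  haveI : Fact (Nat.Prime 2) := ⟨Nat.prime_two⟩
  refine exists_prime_orderOf_dvd_card' 2 (dvd_trans ?_ (orderOf_dvd_natCard g))
  by_contra h2
  obtain ⟨j, hj⟩ : ∃ j, orderOf g = 2 * j + 1 :=
    ⟨orderOf g / 2, by omega⟩
  have hgc : g ∈ Subgroup.centralizer ((P : Subgroup G) : Set G) := by
    have h1 : g = (g ^ 2) ^ (j + 1) := by
      rw [← pow_mul, show 2 * (j + 1) = orderOf g + 1 by omega, pow_succ, pow_orderOf_eq_one,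
        one_mul]
    rw [h1]
    exact pow_mem hcent _
  obtain ⟨x, hxP, hx1⟩ := h.exists_ne_one
  refine hx1 (eq_one_of_eq_inv_of_mem hodd hxP ?_)
  rw [← hg x hxP]
  exact (mul_inv_eq_iff_eq_mul.2 (Subgroup.mem_centralizer_iff.1 hgc x hxP).symm).symm

/-- There is no simple group in the configuration. -/
theorem false_of_simple {G : Type u} [Group G] [Finite G] [IsSimpleGroup G] {P : Sylow p G}
    (h : IsInvConfig P) (hodd : p ≠ 2) : False := by
  haveI : Fintype G := Fintype.ofFinite G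
  obtain ⟨M, hM⟩ := CharInt.exists_isPModular_of_prime hp.out
  obtain ⟨d⟩ := exists_blockData h hodd hM
  obtain ⟨E, _, _, π, z, h1, h2, h3, h4, h5⟩ := exists_central_extension h
  haveI : Fintype E := Fintype.ofFinite E
  obtain ⟨t, ht⟩ := exists_orderOf_eq_two h hodd
  exact false_of_commExt hM hodd d (π := π) (z := z) ⟨h1, h2, h3, h4, h5⟩ ht

/-- A Sylow subgroup meets a normal subgroup in a Sylow subgroup of it. -/
theorem exists_sylow_inf_normal {G : Type u} [Group G] [Finite G] (P : Sylow p G) (N : Subgroup G)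
    [N.Normal] :
    ∃ Q : Sylow p N, (Q : Subgroup N) = ((P : Subgroup G) ⊓ N).subgroupOf N := by
  set R := ((P : Subgroup G) ⊓ N).subgroupOf N with hR
  have hRp : IsPGroup p R :=
    (P.isPGroup'.to_le inf_le_left).of_equiv
      (Subgroup.subgroupOfEquivOfLe (inf_le_right : (P : Subgroup G) ⊓ N ≤ N)).symm
  obtain ⟨Q, hQ⟩ := hRp.exists_le_sylow
  refine ⟨Q, (Subgroup.eq_of_le_of_card_ge hQ ?_).symm⟩
  obtain ⟨S, hS⟩ := (Q.isPGroup'.map N.subtype).exists_le_sylow
  obtain ⟨g, hg⟩ := MulAction.exists_smul_eq G S P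
  have hle : ((Q : Subgroup N).map N.subtype).map (MulAut.conj g).toMonoidHom ≤
      (P : Subgroup G) ⊓ N := by
    refine le_inf ?_ ?_
    · rw [← hg]
      exact Subgroup.map_mono hS
    · rintro _ ⟨y, ⟨y', -, rfl⟩, rfl⟩
      exact ‹N.Normal›.conj_mem _ y'.2 g
  have h1 := Subgroup.card_le_of_le hle
  rw [Subgroup.card_map_of_injective (MulAut.conj g).injective,
    Subgroup.card_map_of_injective N.subtype_injective] at h1
  rw [hR, Nat.card_congr (Subgroup.subgroupOfEquivOfLe (inf_le_right : (P : Subgroup G) ⊓ N ≤ N)).toEquiv]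
  exact h1

/-- With `O_{p'}(G) = 1`, a proper non-trivial normal subgroup cannot avoid containing `P` when `P`
generates `G` normally. -/
theorem le_of_normal {G : Type u} [Group G] [Finite G] {P : Sylow p G} (h : IsInvConfig P)
    (hodd : p ≠ 2) (hcore : Cfsg.pPrimeCore p G = ⊥)
    (hmin : ∀ L : Subgroup G, L.Normal → (P : Subgroup G) ≤ L → L = ⊤) (N : Subgroup G)
    [hN : N.Normal] (hN0 : N ≠ ⊥) : (P : Subgroup G) ≤ N := by
  by_contra hPN
  obtain ⟨Q', hQ'⟩ := exists_sylow_inf_normal P N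
  set Q := (P : Subgroup G) ⊓ N with hQ
  have hmemQ' : ∀ y : N, y ∈ (Q' : Subgroup N) ↔ (y : G) ∈ Q := fun y => by rw [hQ']; rfl
  have hcoreN : Cfsg.pPrimeCore p N = ⊥ := PCore.pPrimeCore_eq_bot_of_normal N hcore
  have hQ0 : ∃ x ∈ Q, x ≠ 1 := by
    by_contra hcon
    push Not at hcon
    apply hN0
    have hQb : (Q' : Subgroup N) = ⊥ :=
      (Subgroup.eq_bot_iff_forall _).2 fun y hy => Subtype.ext (hcon y ((hmemQ' y).1 hy))
    have hnp : ¬ p ∣ Nat.card N := by
      have := Q'.not_dvd_index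
      rwa [hQb, Subgroup.index_bot] at this
    exact le_bot_iff.1 (hcore ▸ PCore.le_pPrimeCore
      ((Nat.Prime.coprime_iff_not_dvd hp.out).2 hnp).symm)
  obtain ⟨x₀, hx₀, hx₀1⟩ := hQ0
  have hsign : ∀ g ∈ Subgroup.normalizer (Q : Set G),
      (∀ x ∈ Q, g * x * g⁻¹ = x) ∨ (∀ x ∈ Q, g * x * g⁻¹ = x⁻¹) := fun g hg =>
    h.uniform_sign inf_le_left fun x hx => ((Subgroup.mem_normalizer_iff.1 hg x).1 hx).1
  by_cases hA : ∀ g ∈ N, g ∈ Subgroup.normalizer (Q : Set G) → ∀ x ∈ Q, g * x * g⁻¹ = x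
  · -- `N` has a normal `p`-complement, hence `N ≤ P` and `N` is central
    have hNC : Subgroup.normalizer ((Q' : Subgroup N) : Set N) ≤
        Subgroup.centralizer ((Q' : Subgroup N) : Set N) := by
      intro n hn
      have hnQ : (n : G) ∈ Subgroup.normalizer (Q : Set G) :=
        Transfer.mem_normalizer_of_conj_mem fun w hw =>
          (hmemQ' _).1 ((Subgroup.mem_normalizer_iff.1 hn ⟨w, hw.2⟩).1 ((hmemQ' _).2 hw))
      rw [Subgroup.mem_centralizer_iff]
      intro y hy
      apply Subtype.ext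
      exact (mul_inv_eq_iff_eq_mul.1 (hA n n.2 hnQ y ((hmemQ' y).1 hy))).symm
    obtain ⟨S, K, hK, hKc⟩ := Transfer.hasNormalPComplement_of_normalizer_le_centralizer Q' hNC
    haveI := hK
    have hK0 : K = ⊥ := by
      rw [eq_bot_iff, ← hcoreN]
      refine PCore.le_pPrimeCore ((Nat.Prime.coprime_iff_not_dvd hp.out).2 fun hd => ?_).symm
      exact S.not_dvd_index (hKc.index_eq_card ▸ hd)
    have hQtop : (Q' : Subgroup N) = ⊤ := by
      apply Subgroup.eq_top_of_card_eq
      have h1 := hKc.card_mul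
      rw [hK0, Subgroup.card_bot, one_mul] at h1
      rw [Q'.card_eq_multiplicity, ← S.card_eq_multiplicity, h1]
    have hNQ : ∀ y ∈ N, y ∈ Q := fun y hy =>
      (hmemQ' ⟨y, hy⟩).1 (hQtop ▸ Subgroup.mem_top _)
    have hC : Subgroup.centralizer (N : Set G) = ⊤ := by
      refine hmin _ inferInstance fun r hr => ?_
      rw [Subgroup.mem_centralizer_iff]
      intro y hy
      exact mul_comm_of_mem h.comm (hNQ y hy).1 hr
    obtain ⟨g, hg⟩ := h.inverter
    apply hx₀1
    refine eq_one_of_eq_inv_of_mem hodd hx₀.1 ?_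
    have hgc : g ∈ Subgroup.centralizer (N : Set G) := hC ▸ Subgroup.mem_top g
    rw [← hg x₀ hx₀.1]
    exact (mul_inv_eq_iff_eq_mul.2 (Subgroup.mem_centralizer_iff.1 hgc x₀ hx₀.2).symm).symm
  · push Not at hA
    obtain ⟨n, hnN, hnQ, x₁, hx₁, hne⟩ := hA
    have hninv : ∀ x ∈ Q, n * x * n⁻¹ = x⁻¹ :=
      (hsign n hnQ).resolve_left fun e => hne (e x₁ hx₁)
    set D := Subgroup.centralizer (Q : Set G) with hD
    have hND : N ⊔ D = ⊤ := by
      rw [eq_top_iff, ← Sylow.normalizer_sup_eq_top Q']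
      refine sup_le ?_ le_sup_left
      intro g hg
      rw [hQ', Subgroup.subgroupOf_map_subtype, inf_of_le_left (inf_le_right : Q ≤ N)] at hg
      rcases hsign g hg with hs | hs
      · refine Subgroup.mem_sup_right ?_
        rw [hD, Subgroup.mem_centralizer_iff]
        exact fun x hx => (mul_inv_eq_iff_eq_mul.1 (hs x hx)).symm
      · rw [show g = n⁻¹ * (n * g) by group]
        refine Subgroup.mul_mem_sup (N.inv_mem hnN) ?_
        rw [hD, Subgroup.mem_centralizer_iff]
        intro x hx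
        refine (mul_inv_eq_iff_eq_mul.1 ?_).symm
        rw [show n * g * x * (n * g)⁻¹ = n * (g * x * g⁻¹) * n⁻¹ by group, hs x hx,
          hninv x⁻¹ (Q.inv_mem hx), inv_inv]
    have hPD : (P : Subgroup G) ≤ D := fun r hr => by
      rw [hD, Subgroup.mem_centralizer_iff]
      exact fun x hx => mul_comm_of_mem h.comm hx.1 hr
    obtain ⟨-, hcompl⟩ := h.index_pPrimeCore_of_centralizes hodd hPD hx₀.1 hx₀1 fun d hd =>
      mul_inv_eq_iff_eq_mul.2 ((Subgroup.mem_centralizer_iff.1 hd) x₀ hx₀).symm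
    set K := (Cfsg.pPrimeCore p D).map D.subtype with hK
    have hDKP : D ≤ K ⊔ (P : Subgroup G) := by
      intro d hd
      have h1 : (⟨d, hd⟩ : D) ∈ Cfsg.pPrimeCore p D ⊔ ((P.subtype hPD : Sylow p D) : Subgroup D) :=
        hcompl.sup_eq_top ▸ Subgroup.mem_top _
      have h2 : D.subtype ⟨d, hd⟩ ∈
          (Cfsg.pPrimeCore p D ⊔ ((P.subtype hPD : Sylow p D) : Subgroup D)).map D.subtype :=
        Subgroup.mem_map_of_mem _ h1
      rw [Subgroup.map_sup, Sylow.coe_subtype, Subgroup.map_subgroupOf_eq_of_le hPD] at h2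
      exact h2
    set W := N ⊔ K with hW
    haveI hWn : W.Normal := by
      rw [← Subgroup.normalizer_eq_top_iff, eq_top_iff, ← hND]
      refine sup_le ((le_sup_left : N ≤ W).trans Subgroup.le_normalizer) fun g hg => ?_
      refine Transfer.mem_normalizer_of_conj_mem fun w hw => ?_
      obtain ⟨a, ha, b, hb, rfl⟩ := Subgroup.mem_sup_of_normal_left.1 hw
      obtain ⟨b', hb', rfl⟩ := hb
      rw [conj_mul_conj]
      exact Subgroup.mul_mem_sup (hN.conj_mem a ha g)
        ⟨⟨g, hg⟩ * b' * (⟨g, hg⟩ : D)⁻¹, (inferInstance : (Cfsg.pPrimeCore p D).Normal).conj_mem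
          b' hb' ⟨g, hg⟩, rfl⟩
    have hWP : W ⊔ (P : Subgroup G) = ⊤ := by
      rw [eq_top_iff, ← hND]
      exact sup_le (le_sup_left.trans le_sup_left)
        (hDKP.trans (sup_le (le_sup_right.trans le_sup_left) le_sup_right))
    obtain ⟨g, hg⟩ := h.inverter
    obtain ⟨w, hw, r, hr, rfl⟩ := Subgroup.mem_sup_of_normal_left.1 (hWP ▸ Subgroup.mem_top g)
    have hPW : (P : Subgroup G) ≤ W := by
      intro x hx
      have hwx : w * x * w⁻¹ = x⁻¹ := by
        rw [← hg x hx]
        have e1 : r * x * r⁻¹ = x := by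
          rw [mul_comm_of_mem h.comm hr hx, mul_inv_cancel_right]
        calc w * x * w⁻¹ = w * (r * x * r⁻¹) * w⁻¹ := by rw [e1]
          _ = w * r * x * (w * r)⁻¹ := by group
      have h2 : x⁻¹ * x⁻¹ ∈ W := by
        have h3 := W.mul_mem hw (hWn.conj_mem _ (W.inv_mem hw) x)
        rw [show w * (x * w⁻¹ * x⁻¹) = w * x * w⁻¹ * x⁻¹ by group, hwx] at h3
        exact h3
      rw [← pow_two, inv_pow, Subgroup.inv_mem_iff] at h2
      obtain ⟨j, hj⟩ := (IsPGroup.iff_orderOf.1 P.isPGroup') ⟨x, hx⟩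
      rw [Subgroup.orderOf_mk] at hj
      obtain ⟨l, hl⟩ : ∃ l, p ^ j = 2 * l + 1 := (hp.out.odd_of_ne_two hodd).pow
      have h4 : x = (x ^ 2) ^ (l + 1) := by
        rw [← pow_mul, show 2 * (l + 1) = orderOf x + 1 by rw [hj]; omega, pow_succ,
          pow_orderOf_eq_one, one_mul]
      rw [h4]
      exact W.pow_mem h2 _
    have hWtop : W = ⊤ := hmin W hWn hPW
    have hKp : (Nat.card K).Coprime p := by
      rw [hK, Subgroup.card_map_of_injective D.subtype_injective]
      exact PCore.coprime_card_pPrimeCore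
    have hidx : (N.index).Coprime p := by
      refine hKp.coprime_dvd_left ?_
      have h1 : Nat.card G ∣ Nat.card N * Nat.card K := by
        have := PCore.card_sup_dvd N K
        rwa [← hW, hWtop, Subgroup.card_top] at this
      rw [← N.card_mul_index] at h1
      exact (Nat.mul_dvd_mul_iff_left Nat.card_pos).1 h1
    apply hPN
    intro x hx
    obtain ⟨j, hj⟩ := (IsPGroup.iff_orderOf.1 P.isPGroup') ⟨x, hx⟩
    rw [Subgroup.orderOf_mk] at hj
    have h1 : orderOf (x : G ⧸ N) ∣ orderOf x := orderOf_map_dvd (QuotientGroup.mk' N) x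
    have h2 : orderOf (x : G ⧸ N) ∣ N.index := by
      rw [Subgroup.index_eq_card]; exact orderOf_dvd_natCard _
    exact (QuotientGroup.eq_one_iff x).1 (orderOf_eq_one_iff.1 (Nat.eq_one_of_dvd_coprimes
      (Nat.Coprime.pow_right j hidx) h2 (hj ▸ h1)))

/-- With `O_{p'}(G) = 1` the Sylow subgroup is normal. -/
theorem normal_of_config (hodd : p ≠ 2) : ∀ (n : ℕ) {G : Type u} [Group G] [Finite G]
    (P : Sylow p G), Nat.card G = n → IsInvConfig P → Cfsg.pPrimeCore p G = ⊥ →
    (P : Subgroup G).Normal := by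
  intro n
  induction n using Nat.strong_induction_on with
  | _ n ih =>
  intro G _ _ P hn h hcore
  by_contra hnn
  set L := Subgroup.normalClosure ((P : Subgroup G) : Set G) with hL
  have hPL : (P : Subgroup G) ≤ L := Subgroup.le_normalClosure
  by_cases hLt : L = ⊤
  · have hmin : ∀ L' : Subgroup G, L'.Normal → (P : Subgroup G) ≤ L' → L' = ⊤ := fun L' hL' hle =>
      by haveI := hL'; exact top_le_iff.1 (hLt ▸ Subgroup.normalClosure_le_normal hle)
    haveI : Nontrivial G := by
      obtain ⟨x, -, hx⟩ := h.exists_ne_one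
      exact ⟨⟨x, 1, hx⟩⟩
    haveI : IsSimpleGroup G := ⟨fun N hN => by
      by_cases hN0 : N = ⊥
      · exact Or.inl hN0
      · haveI := hN
        exact Or.inr (hmin N hN (le_of_normal h hodd hcore hmin N hN0))⟩
    exact false_of_simple h hodd
  · haveI : L.Normal := Subgroup.normalClosure_normal
    have hcard : Nat.card L < n := by
      rw [← hn]
      exact lt_of_le_of_ne (Subgroup.card_le_card_group L)
        fun e => hLt (Subgroup.eq_top_of_card_eq L e)
    set PL : Sylow p L := P.subtype hPL with hPLdef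
    have hmem : ∀ y : L, y ∈ (PL : Subgroup L) ↔ (y : G) ∈ (P : Subgroup G) := fun y => by
      rw [hPLdef, Sylow.coe_subtype]; rfl
    have hcoreL : Cfsg.pPrimeCore p L = ⊥ := PCore.pPrimeCore_eq_bot_of_normal L hcore
    have hsign : ∀ g ∈ Subgroup.normalizer ((PL : Subgroup L) : Set L),
        (∀ x ∈ (PL : Subgroup L), g * x * g⁻¹ = x) ∨
        (∀ x ∈ (PL : Subgroup L), g * x * g⁻¹ = x⁻¹) := by
      intro g hg
      have hgN : (g : G) ∈ Subgroup.normalizer ((P : Subgroup G) : Set G) :=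
        Transfer.mem_normalizer_of_conj_mem fun w hw =>
          (hmem _).1 ((Subgroup.mem_normalizer_iff.1 hg ⟨w, hPL hw⟩).1 ((hmem _).2 hw))
      exact (h.sign g hgN).imp (fun e x hx => Subtype.ext (e x ((hmem x).1 hx)))
        (fun e x hx => Subtype.ext (e x ((hmem x).1 hx)))
    have hnormal : (PL : Subgroup L).Normal := by
      by_cases hinv : ∃ g : L, ∀ x ∈ (PL : Subgroup L), g * x * g⁻¹ = x⁻¹
      · refine ih _ hcard PL rfl ⟨?_, ?_, hsign, hinv⟩ hcoreL
        · exact ⟨⟨fun a b => Subtype.ext (Subtype.ext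
            (mul_comm_of_mem h.comm ((hmem _).1 a.2) ((hmem _).1 b.2)))⟩⟩
        · intro hc
          apply h.noncyclic
          have hc' : IsCyclic ((P : Subgroup G).subgroupOf L) := by
            rwa [hPLdef, Sylow.coe_subtype] at hc
          exact isCyclic_of_surjective (Subgroup.subgroupOfEquivOfLe hPL).toMonoidHom
            (Subgroup.subgroupOfEquivOfLe hPL).surjective
      · have hNC : Subgroup.normalizer ((PL : Subgroup L) : Set L) ≤
            Subgroup.centralizer ((PL : Subgroup L) : Set L) := by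
          intro g hg
          rcases hsign g hg with hs | hs
          · rw [Subgroup.mem_centralizer_iff]
            exact fun x hx => (mul_inv_eq_iff_eq_mul.1 (hs x hx)).symm
          · exact absurd ⟨g, hs⟩ hinv
        obtain ⟨S, K, hK, hKc⟩ := Transfer.hasNormalPComplement_of_normalizer_le_centralizer PL hNC
        haveI := hK
        have hK0 : K = ⊥ := by
          rw [eq_bot_iff, ← hcoreL]
          refine PCore.le_pPrimeCore ((Nat.Prime.coprime_iff_not_dvd hp.out).2 fun hd => ?_).symm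
          exact S.not_dvd_index (hKc.index_eq_card ▸ hd)
        have hPtop : (PL : Subgroup L) = ⊤ := by
          apply Subgroup.eq_top_of_card_eq
          have h1 := hKc.card_mul
          rw [hK0, Subgroup.card_bot, one_mul] at h1
          rw [PL.card_eq_multiplicity, ← S.card_eq_multiplicity, h1]
        rw [hPtop]
        infer_instance
    apply hnn
    haveI : Subsingleton (Sylow p L) := by
      haveI := hnormal
      exact (Sylow.unique_of_normal PL hnormal).instSubsingleton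
    constructor
    intro x hx g
    have h1 : g * x * g⁻¹ ∈ L := ‹L.Normal›.conj_mem x (hPL hx) g
    have h2 : (⟨x, hPL hx⟩ : L) ∈ (PL : Subgroup L) := (hmem _).2 hx
    have h3 : ((MulAut.conjNormal g : MulAut L) • PL : Sylow p L) = PL := Subsingleton.elim _ _
    rw [← h3] at h2
    have h4 : (MulAut.conjNormal g : MulAut L) ⟨x, hPL hx⟩ ∈ (PL : Subgroup L) := by
      rw [← h3]
      exact Subgroup.mem_map_of_mem _ ((hmem _).2 hx)
    exact (hmem _).1 h4

set_option maxHeartbeats 1000000 in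
/-- The image of the configuration modulo a normal `p'`-subgroup. -/
theorem invConfig_map {G H : Type u} [Group G] [Finite G] [Group H] [Finite H] {P : Sylow p G}
    (h : IsInvConfig P) (f : G →* H) (hf : Function.Surjective f)
    (hk : (Nat.card f.ker).Coprime p) : IsInvConfig (P.mapSurjective hf) := by
  set P' := P.mapSurjective hf with hP'
  have hmem : ∀ y, y ∈ (P' : Subgroup H) ↔ ∃ x ∈ (P : Subgroup G), f x = y := fun y => by
    rw [hP', Sylow.coe_mapSurjective]; rfl
  have hinj : ∀ x ∈ (P : Subgroup G), f x = 1 → x = 1 := fun x hx e => by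
    have hd : Disjoint (P : Subgroup G) f.ker :=
      PCore.disjoint_of_isPGroup_of_coprime P.isPGroup' hk
    exact Subgroup.disjoint_def.1 hd hx e
  refine ⟨⟨⟨fun a b => Subtype.ext ?_⟩⟩, fun hc => ?_, fun y hy => ?_, ?_⟩
  · obtain ⟨a', ha, hfa⟩ := (hmem _).1 a.2
    obtain ⟨b', hb, hfb⟩ := (hmem _).1 b.2
    show (a : H) * b = b * a
    rw [← hfa, ← hfb, ← map_mul, mul_comm_of_mem h.comm ha hb, map_mul]
  · apply h.noncyclic
    let φ : (P : Subgroup G) →* (P' : Subgroup H) :=
      (f.comp (P : Subgroup G).subtype).codRestrict _ fun x => (hmem _).2 ⟨x, x.2, rfl⟩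
    have hφ : Function.Injective φ := (injective_iff_map_eq_one φ).2 fun x hx =>
      Subtype.ext (hinj x x.2 (congrArg Subtype.val hx))
    exact isCyclic_of_injective φ hφ
  · obtain ⟨g, rfl⟩ := hf y
    set W := (P' : Subgroup H).comap f with hW
    have hPW : (P : Subgroup G) ≤ W := fun x hx => (hmem _).2 ⟨x, hx, rfl⟩
    have hgW : ((g • P : Sylow p G) : Subgroup G) ≤ W := by
      rintro _ ⟨x, hx, rfl⟩
      show f (g * x * g⁻¹) ∈ (P' : Subgroup H)
      rw [map_mul, map_mul, map_inv]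
      exact (Subgroup.mem_normalizer_iff.1 hy _).1 ((hmem _).2 ⟨x, hx, rfl⟩)
    obtain ⟨w, hw⟩ := MulAction.exists_smul_eq W ((g • P : Sylow p G).subtype hgW) (P.subtype hPW)
    have hn : (w : G) * g ∈ Subgroup.normalizer ((P : Subgroup G) : Set G) := by
      refine Transfer.mem_normalizer_of_conj_mem fun x hx => ?_
      have h1 : (⟨g * x * g⁻¹, hgW ⟨x, hx, rfl⟩⟩ : W) ∈
          (((g • P : Sylow p G).subtype hgW : Sylow p W) : Subgroup W) := by
        rw [Sylow.coe_subtype]
        exact ⟨x, hx, rfl⟩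
      have h2 : w * ⟨g * x * g⁻¹, hgW ⟨x, hx, rfl⟩⟩ * w⁻¹ ∈
          ((P.subtype hPW : Sylow p W) : Subgroup W) := by
        rw [← hw]
        exact ⟨_, h1, rfl⟩
      rw [Sylow.coe_subtype] at h2
      have h3 : (w : G) * (g * x * g⁻¹) * (w : G)⁻¹ ∈ (P : Subgroup G) := h2
      rwa [show (w : G) * g * x * ((w : G) * g)⁻¹ = (w : G) * (g * x * g⁻¹) * (w : G)⁻¹ by group]
    obtain ⟨r, hr, hfr⟩ := (hmem _).1 (show f (w : G) ∈ (P' : Subgroup H) from w.2)
    have key : ∀ x ∈ (P : Subgroup G), f g * f x * (f g)⁻¹ =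
        (f r)⁻¹ * f ((w : G) * g * x * ((w : G) * g)⁻¹) * f r := by
      intro x _
      rw [hfr, map_mul, map_mul, map_inv, map_mul]
      group
    have hrcomm : ∀ x ∈ (P : Subgroup G), (f r)⁻¹ * f x * f r = f x := by
      intro x hx
      rw [mul_assoc, ← map_mul, mul_comm_of_mem h.comm hx hr, map_mul, inv_mul_cancel_left]
    rcases h.sign _ hn with hs | hs
    · refine Or.inl fun y hy => ?_
      obtain ⟨x, hx, rfl⟩ := (hmem _).1 hy
      rw [key x hx, hs x hx, hrcomm x hx]
    · refine Or.inr fun y hy => ?_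
      obtain ⟨x, hx, rfl⟩ := (hmem _).1 hy
      rw [key x hx, hs x hx, hrcomm x⁻¹ (inv_mem hx), map_inv]
  · obtain ⟨g, hg⟩ := h.inverter
    refine ⟨f g, fun y hy => ?_⟩
    obtain ⟨x, hx, rfl⟩ := (hmem _).1 hy
    rw [← map_inv f g, ← map_mul, ← map_mul, hg x hx, map_inv]

/-- A group with a normal Sylow `p`-subgroup has `p`-length at most one. -/
theorem pLengthLE_one_of_normal {H : Type u} [Group H] [Finite H] (P : Sylow p H)
    (hn : (P : Subgroup H).Normal) : Cfsg.PLengthLE p 1 H := by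
  haveI := hn
  refine PCore.pLengthLE_succ_of_isPGroup_ker (k := 0) (QuotientGroup.mk' (P : Subgroup H))
    (QuotientGroup.mk'_surjective _)
    ((QuotientGroup.ker_mk' _).le.trans (PCore.le_pCore P.isPGroup')) ?_
  rw [PCore.pLengthLE_zero_iff, ← Subgroup.index_eq_card]
  exact ((Nat.Prime.coprime_iff_not_dvd hp.out).2 P.not_dvd_index).symm

/-- The configuration forces `p`-length one. -/
theorem pLengthLE_one {G : Type u} [Group G] [Finite G] {P : Sylow p G} (h : IsInvConfig P)
    (hodd : p ≠ 2) : Cfsg.PLengthLE p 1 G := by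
  have hf : Function.Surjective (QuotientGroup.mk' (Cfsg.pPrimeCore p G)) :=
    QuotientGroup.mk'_surjective _
  have hcop : (Nat.card (QuotientGroup.mk' (Cfsg.pPrimeCore p G)).ker).Coprime p := by
    rw [QuotientGroup.ker_mk']
    exact PCore.coprime_card_pPrimeCore
  have hcfg := invConfig_map h _ hf hcop
  have hnorm : ((P.mapSurjective hf : Sylow p (G ⧸ Cfsg.pPrimeCore p G)) :
      Subgroup (G ⧸ Cfsg.pPrimeCore p G)).Normal :=
    normal_of_config hodd (Nat.card (G ⧸ Cfsg.pPrimeCore p G)) (P.mapSurjective hf) rfl hcfg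
      PCore.pPrimeCore_quotient_self_eq_bot
  exact PCore.pLengthLE_of_ker_le_pPrimeCore _ hf (QuotientGroup.ker_mk' _).le
    (pLengthLE_one_of_normal (P.mapSurjective hf) hnorm)

/-- If `O^p(G) = G` and `|N(P) : C(P)| = 2`, the Sylow subgroup is inverted in its normaliser. -/
theorem invConfig_of_pResidual_eq_top {G : Type u} [Group G] [Finite G] (P : Sylow p G)
    (hab : IsMulCommutative (P : Subgroup G)) (hnc : ¬ IsCyclic (P : Subgroup G))
    (hidx : ((Subgroup.centralizer ((P : Subgroup G) : Set G)).subgroupOf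
      (Subgroup.normalizer ((P : Subgroup G) : Set G))).index = 2)
    (hres : Cfsg.pResidual p G = ⊤) : IsInvConfig P := by
  set N := Subgroup.normalizer ((P : Subgroup G) : Set G) with hN
  set C := Subgroup.centralizer ((P : Subgroup G) : Set G) with hC
  obtain ⟨f, hf⟩ := Transfer.exists_surjective_inf_centralizer_normalizer P hab
  have htriv : ∀ y ∈ (P : Subgroup G) ⊓ Subgroup.centralizer (N : Set G), y = 1 := by
    intro y hy
    obtain ⟨g, hg⟩ := hf ⟨y, hy⟩
    have hker : g ∈ f.ker := by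
      refine (?_ : Cfsg.pResidual p G ≤ f.ker) (hres ▸ Subgroup.mem_top g)
      refine (Subgroup.closure_le _).2 fun a ha => ?_
      obtain ⟨j, hj⟩ := IsPGroup.iff_card.1 ((P.isPGroup').to_le
        (inf_le_left : (P : Subgroup G) ⊓ Subgroup.centralizer (N : Set G) ≤ P))
      exact orderOf_eq_one_iff.1 (Nat.eq_one_of_dvd_coprimes
        (Nat.Coprime.pow_right j ha) (orderOf_map_dvd f a) (hj ▸ orderOf_dvd_natCard _))
    rw [MonoidHom.mem_ker.1 hker] at hg
    exact (congrArg Subtype.val hg).symm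
  obtain ⟨t, ht⟩ : ∃ t : N, t ∉ C.subgroupOf N := by
    by_contra hc
    push Not at hc
    rw [(Subgroup.eq_top_iff' _).2 hc, Subgroup.index_top] at hidx
    omega
  have hfix : ∀ n ∈ C, ∀ x ∈ (P : Subgroup G), n * x * n⁻¹ = x := fun n hn x hx =>
    mul_inv_eq_iff_eq_mul.2 (Subgroup.mem_centralizer_iff.1 hn x hx).symm
  have hcases : ∀ n : N, (n : G) ∈ C ∨ ((t * n : N) : G) ∈ C := by
    intro n
    by_cases hn : n ∈ C.subgroupOf N
    · exact Or.inl hn
    · exact Or.inr ((Subgroup.mul_mem_iff_of_index_two hidx).2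
        ⟨fun h1 => absurd h1 ht, fun h1 => absurd h1 hn⟩)
  have hmemP : ∀ x ∈ (P : Subgroup G), (t : G) * x * (t : G)⁻¹ ∈ (P : Subgroup G) := fun x hx =>
    (Subgroup.mem_normalizer_iff.1 t.2 x).1 hx
  have htt : ((t * t : N) : G) ∈ C := (Subgroup.mul_mem_iff_of_index_two hidx).2 Iff.rfl
  have htinv : ∀ x ∈ (P : Subgroup G), (t : G) * x * (t : G)⁻¹ = x⁻¹ := by
    intro x hx
    have hyP : x * ((t : G) * x * (t : G)⁻¹) ∈ (P : Subgroup G) := mul_mem hx (hmemP x hx)
    have hy : x * ((t : G) * x * (t : G)⁻¹) = 1 := by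
      refine htriv _ ⟨hyP, ?_⟩
      show _ ∈ Subgroup.centralizer (N : Set G)
      rw [Subgroup.mem_centralizer_iff]
      intro n hn
      refine mul_inv_eq_iff_eq_mul.1 ?_
      have hty : (t : G) * (x * ((t : G) * x * (t : G)⁻¹)) * (t : G)⁻¹ =
          x * ((t : G) * x * (t : G)⁻¹) := by
        have h1 := hfix _ htt x hx
        rw [Subgroup.coe_mul] at h1
        rw [conj_mul_conj, show (t : G) * ((t : G) * x * (t : G)⁻¹) * (t : G)⁻¹ =
          (t : G) * t * x * ((t : G) * t)⁻¹ by group, h1]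
        exact mul_comm_of_mem hab (hmemP x hx) hx
      rcases hcases ⟨n, hn⟩ with h1 | h1
      · exact hfix n h1 _ hyP
      · have h2 := hfix _ h1 _ hyP
        rw [Subgroup.coe_mul] at h2
        refine mul_left_cancel (a := (t : G)) (mul_right_cancel (b := (t : G)⁻¹) ?_)
        rw [hty]
        calc (t : G) * (n * (x * ((t : G) * x * (t : G)⁻¹)) * n⁻¹) * (t : G)⁻¹
            = (t : G) * n * (x * ((t : G) * x * (t : G)⁻¹)) * ((t : G) * n)⁻¹ := by group
          _ = x * ((t : G) * x * (t : G)⁻¹) := h2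
    exact eq_inv_of_mul_eq_one_right hy
  refine ⟨hab, hnc, fun g hg => ?_, ⟨t, htinv⟩⟩
  rcases hcases ⟨g, hg⟩ with h1 | h1
  · exact Or.inl (hfix g h1)
  · refine Or.inr fun x hx => ?_
    have h2 := hfix _ h1 _ ((Subgroup.mem_normalizer_iff.1 hg x).1 hx)
    rw [Subgroup.coe_mul] at h2
    have h3 := htinv (g * x * g⁻¹) ((Subgroup.mem_normalizer_iff.1 hg x).1 hx)
    have h4 := hfix _ h1 x hx
    rw [Subgroup.coe_mul, show (t : G) * g * x * ((t : G) * g)⁻¹ =
      (t : G) * (g * x * g⁻¹) * (t : G)⁻¹ by group, h3] at h4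
    exact inv_eq_iff_eq_inv.1 h4

end Cfsg.Agent.SmithTyrer
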