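import Cfsg.Agent.Lib.Exceptional.UnitVec

/-!
# Arithmetic for abelian Sylow subgroups of inertial index two

A family of vectors of norm two with inner products one, a lemma on sums weighted by roots of
unity, and the final identity showing that the exceptional configuration cannot exist.
-/

set_option autoImplicit false

namespace Cfsg.Agent.SmithTyrer

open Exceptional

theorem dot_unit_cases {κ : Type*} [Fintype κ] [DecidableEq κ] {u w : κ → ℤ} (hu : IsUnitVec u)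
    (hw : w ⬝ᵥ w = 2) : u ⬝ᵥ w = -1 ∨ u ⬝ᵥ w = 0 ∨ u ⬝ᵥ w = 1 := by
  obtain ⟨i, e, he, rfl⟩ := hu.exists_single
  have hle : w i * w i ≤ w ⬝ᵥ w :=
    Finset.single_le_sum (f := fun j => w j * w j) (fun j _ => mul_self_nonneg _) (Finset.mem_univ i)
  have h1 : -1 ≤ w i ∧ w i ≤ 1 := by constructor <;> nlinarith
  rw [single_dotProduct]
  rcases he with rfl | rfl <;> omega

theorem isUnitVec_sub {κ : Type*} [Fintype κ] {u w : κ → ℤ} (hu : IsUnitVec u)
    (hw : w ⬝ᵥ w = 2) (huw : u ⬝ᵥ w = 1) : IsUnitVec (w - u) := by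
  rw [IsUnitVec, sub_dotProduct, dotProduct_sub, dotProduct_sub, dotProduct_comm w u, hw, huw,
    show u ⬝ᵥ u = 1 from hu]
  norm_num

/-- Norm-two vectors with pairwise inner product one, at least four of them, have a common unit
vector. -/
theorem exists_common_unit {A κ : Type*} [Fintype κ] [DecidableEq κ] [Nonempty A]
    (W : A → κ → ℤ) (rel : A → A → Prop) (heq : ∀ a b, rel a b → W a = W b)
    (hnorm : ∀ a, W a ⬝ᵥ W a = 2) (hinner : ∀ a b, ¬ rel a b → W a ⬝ᵥ W b = 1)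
    (hbig : ∀ a b c, ∃ d, ¬ rel a d ∧ ¬ rel b d ∧ ¬ rel c d) :
    ∃ u : κ → ℤ, IsUnitVec u ∧ ∀ a, u ⬝ᵥ W a = 1 := by
  obtain ⟨a₁⟩ := ‹Nonempty A›
  obtain ⟨u, v, hu, hv, huv, he⟩ := exists_pair_of_norm_two (hnorm a₁)
  have hor : ∀ a, u ⬝ᵥ W a = 1 ∨ v ⬝ᵥ W a = 1 := by
    intro a
    by_cases hr : rel a₁ a
    · left
      rw [← heq _ _ hr, he, dotProduct_add, huv, show u ⬝ᵥ u = 1 from hu, add_zero]
    · have h1 := hinner _ _ hr
      rw [he, add_dotProduct] at h1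
      rcases dot_unit_cases hu (hnorm a) with h | h | h <;>
        rcases dot_unit_cases hv (hnorm a) with h' | h' | h' <;> omega
  by_cases hU : ∀ a, u ⬝ᵥ W a = 1
  · exact ⟨u, hu, hU⟩
  by_cases hV : ∀ a, v ⬝ᵥ W a = 1
  · exact ⟨v, hv, hV⟩
  exfalso
  push Not at hU hV
  obtain ⟨a₃, h3⟩ := hU
  obtain ⟨a₂, h2⟩ := hV
  have h3v : v ⬝ᵥ W a₃ = 1 := (hor a₃).resolve_left h3
  have h2u : u ⬝ᵥ W a₂ = 1 := (hor a₂).resolve_right h2
  have hn3 : ¬ rel a₁ a₃ := by
    intro hr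
    apply h3
    rw [← heq _ _ hr, he, dotProduct_add, huv, show u ⬝ᵥ u = 1 from hu, add_zero]
  have hn2 : ¬ rel a₁ a₂ := by
    intro hr
    apply h2
    rw [← heq _ _ hr, he, dotProduct_add, dotProduct_comm v u, huv, show v ⬝ᵥ v = 1 from hv,
      zero_add]
  have e3 : u ⬝ᵥ W a₃ = 0 := by
    have h1 := hinner _ _ hn3
    rw [he, add_dotProduct] at h1
    omega
  have e2 : v ⬝ᵥ W a₂ = 0 := by
    have h1 := hinner _ _ hn2
    rw [he, add_dotProduct] at h1
    omega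
  have hn23 : ¬ rel a₂ a₃ := fun hr => h3 (heq _ _ hr ▸ h2u)
  set c := W a₂ - u with hc
  set d := W a₃ - v with hd
  have hcu : IsUnitVec c := isUnitVec_sub hu (hnorm _) h2u
  have hdu : IsUnitVec d := isUnitVec_sub hv (hnorm _) h3v
  have hcd : c ⬝ᵥ d = 1 := by
    rw [hc, hd, sub_dotProduct, dotProduct_sub, dotProduct_sub, hinner _ _ hn23,
      dotProduct_comm (W a₂) v, e2, e3, huv]
    norm_num
  have hdc : d = c := by
    have h1 := (hcu.eq_smul hdu (by omega)).1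
    rwa [hcd, one_smul] at h1
  have hW : W a₃ = v + W a₂ - u := by
    have h1 : W a₃ = v + d := by rw [hd]; abel
    rw [h1, hdc, hc]
    abel
  obtain ⟨a₄, k1, k2, k3⟩ := hbig a₁ a₂ a₃
  have h1 := hinner _ _ k1
  have h2' := hinner _ _ k2
  have h3' := hinner _ _ k3
  rw [he, add_dotProduct] at h1
  rw [hW, sub_dotProduct, add_dotProduct, h2'] at h3'
  omega

open Complex in
/-- Sums weighted by powers of `p`-th roots of unity. -/
theorem natCast_mul_sum_filter_eq {ι : Type*} [Fintype ι] {p : ℕ} [Fact p.Prime] (A ω : ι → ℂ)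
    (hω : ∀ i, ω i ^ p = 1) (h : ∀ j, 0 < j → j < p → ∑ i, A i * ω i ^ j = 0) {ζ : ℂ}
    (hζ : ζ ^ p = 1) [DecidablePred fun i => ω i = ζ] :
    (p : ℂ) * ∑ i ∈ Finset.univ.filter (fun i => ω i = ζ), A i = ∑ i, A i := by
  have hζ0 : ζ ≠ 0 := fun h0 => by simp [h0, (Fact.out : p.Prime).ne_zero] at hζ
  have key : ∀ i, ∑ j ∈ Finset.range p, A i * (ω i / ζ) ^ j =
      if ω i = ζ then (p : ℂ) * A i else 0 := by
    intro i
    rw [← Finset.mul_sum]
    split_ifs with hi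
    · simp [hi, div_self hζ0, mul_comm]
    · have hne : ω i / ζ ≠ 1 := fun e => hi ((div_eq_one_iff_eq hζ0).1 e)
      rw [geom_sum_eq hne, div_pow, hω, hζ, div_one, sub_self, zero_div, mul_zero]
  rw [Finset.mul_sum, Finset.sum_filter, ← Finset.sum_congr rfl fun i _ => key i, Finset.sum_comm,
    Finset.sum_eq_single 0]
  · simp
  · intro j hj hj0
    rw [Finset.mem_range] at hj
    have h1 : ∀ i, A i * (ω i / ζ) ^ j = (ζ ^ j)⁻¹ * (A i * ω i ^ j) := fun i => by
      rw [div_pow]; ring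
    rw [Finset.sum_congr rfl fun i _ => h1 i, ← Finset.mul_sum, h j (Nat.pos_of_ne_zero hj0) hj,
      mul_zero]
  · intro h0
    exact absurd (Finset.mem_range.2 (Fact.out : p.Prime).pos) h0

/-- The identity behind the final contradiction. -/
theorem exceptional_identity (s U : ℚ) (hs : s ≠ 0) (hs1 : 1 + s ≠ 0)
    (h1 : (U + 1) + (U - 1) * s ≠ 0) (h2 : (1 - U) + (-U - 1) * s ≠ 0) :
    (U - 1) ^ 3 / (4 * ((U + 1) + (U - 1) * s)) + (-U - 1) ^ 3 / (4 * ((1 - U) + (-U - 1) * s))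
      + (1 - U ^ 2) / (2 * (1 + s)) - 1 / s =
    (1 - s) * (1 - U ^ 2) / (s * (1 + s) * (-((U + 1) + (U - 1) * s) * ((1 - U) + (-U - 1) * s))) := by
  obtain ⟨A, hA⟩ : ∃ A, A = (U + 1) + (U - 1) * s := ⟨_, rfl⟩
  obtain ⟨B, hB⟩ : ∃ B, B = (1 - U) + (-U - 1) * s := ⟨_, rfl⟩
  rw [← hA] at h1 ⊢
  rw [← hB] at h2 ⊢
  field_simp
  subst hA hB
  ring

/-- No family of integral pairs `(a, b)` has all the properties of the exceptional characters of
a faithful block of the covering group. -/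
theorem no_exceptional {ι : Type*} [Fintype ι] {p : ℕ} [hp : Fact p.Prime] (hodd : p ≠ 2)
    (m : ℕ) (s : ℤ) (hs0 : s ≠ 0) (hs1 : s ≠ 1) (hs2 : s ≠ -1) (hsp : (p : ℤ) ∣ s - 1)
    (a b : ι → ℤ) (haa : ∑ i, a i ^ 2 = (m : ℤ) + 1) (hab : ∑ i, a i * b i = (m : ℤ))
    (hbb : ∑ i, b i ^ 2 = (m : ℤ) + 1) (hne : ∀ i, a i + b i * s ≠ 0)
    (hdvd : ∀ i, (p : ℤ) ∣ a i + b i * s)
    (hcube : ∑ i, (b i : ℚ) ^ 3 / ((a i + b i * s : ℤ) : ℚ) = 1 / (s : ℚ) + (m : ℚ) / (1 + s)) :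
    False := by
  classical
  have hk : (a - b) ⬝ᵥ (a - b) = 2 := by
    simp only [dotProduct, Pi.sub_apply]
    rw [Finset.sum_congr rfl fun i _ =>
      show (a i - b i) * (a i - b i) = a i ^ 2 - 2 * (a i * b i) + b i ^ 2 by ring,
      Finset.sum_add_distrib, Finset.sum_sub_distrib, ← Finset.mul_sum, haa, hab, hbb]
    ring
  obtain ⟨u, v, hu, hv, huv, he⟩ := exists_pair_of_norm_two hk
  obtain ⟨i, κ, hκ, rfl⟩ := hu.exists_single
  obtain ⟨j, κ', hκ', rfl⟩ := hv.exists_single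
  have hij : i ≠ j := by
    rintro rfl
    rw [single_dotProduct, Pi.single_eq_same] at huv
    rcases hκ with rfl | rfl <;> rcases hκ' with rfl | rfl <;> norm_num at huv
  have hi : a i - b i = κ := by simpa [hij] using congrFun he i
  have hj : a j - b j = κ' := by simpa [hij.symm] using congrFun he j
  set R := ((Finset.univ : Finset ι).erase i).erase j with hR
  have hrest : ∀ l ∈ R, a l = b l := by
    intro l hl
    rw [hR, Finset.mem_erase, Finset.mem_erase] at hl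
    have h1 := congrFun he l
    simp only [Pi.sub_apply, Pi.add_apply, Pi.single_eq_of_ne hl.2.1, Pi.single_eq_of_ne hl.1,
      add_zero] at h1
    omega
  have split : ∀ {β : Type} [AddCommMonoid β] (f : ι → β),
      ∑ l, f l = f i + (f j + ∑ l ∈ R, f l) := by
    intro β _ f
    rw [hR, ← Finset.add_sum_erase _ f (Finset.mem_univ i),
      ← Finset.add_sum_erase _ f (Finset.mem_erase.2 ⟨hij.symm, Finset.mem_univ j⟩)]
  have hκ2 : κ * κ = 1 := by rcases hκ with rfl | rfl <;> norm_num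
  have hκ2' : κ' * κ' = 1 := by rcases hκ' with rfl | rfl <;> norm_num
  set U := κ * (a i + b i) with hU
  have hU' : κ' * (a j + b j) = -U := by
    have h1 : ∑ l, (a l ^ 2 - b l ^ 2) = 0 := by rw [Finset.sum_sub_distrib, haa, hbb, sub_self]
    rw [split, Finset.sum_eq_zero fun l hl => by rw [hrest l hl, sub_self]] at h1
    rw [hU, ← hi, ← hj]
    linear_combination h1
  have hai : 2 * a i = κ * (U + 1) := by
    rw [hU]; linear_combination hi - (a i + b i) * hκ2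
  have hbi : 2 * b i = κ * (U - 1) := by
    rw [hU]; linear_combination -hi - (a i + b i) * hκ2
  have haj : 2 * a j = κ' * (1 - U) := by
    linear_combination hj - (a j + b j) * hκ2' + κ' * hU'
  have hbj : 2 * b j = κ' * (-U - 1) := by
    linear_combination -hj - (a j + b j) * hκ2' + κ' * hU'
  -- `p` divides `U`
  have hpU : (p : ℤ) ∣ U := by
    have h1 : (p : ℤ) ∣ 2 * (a i + b i * s) := dvd_mul_of_dvd_right (hdvd i) 2
    have h2 : 2 * (a i + b i * s) = κ * (2 * U) + κ * (U - 1) * (s - 1) := by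
      linear_combination hai + s * hbi
    rw [h2, dvd_add_left (dvd_mul_of_dvd_right hsp _)] at h1
    have h3 : (p : ℤ) ∣ 2 * U := by
      have h4 := dvd_mul_of_dvd_right h1 κ
      rwa [show κ * (κ * (2 * U)) = 2 * U by linear_combination (2 * U) * hκ2] at h4
    refine (Int.Prime.dvd_mul' hp.out h3).resolve_left fun h2 => hodd ?_
    exact (Nat.prime_dvd_prime_iff_eq hp.out Nat.prime_two).1 (by exact_mod_cast h2)
  have hU1 : U ^ 2 ≠ 1 := by
    intro h1
    have h2 := dvd_mul_of_dvd_left hpU U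
    rw [← pow_two, h1] at h2
    exact hp.out.ne_one (Nat.dvd_one.1 (by exact_mod_cast h2))
  -- sums over the rest
  have hRb : 2 * (∑ l ∈ R, b l ^ 2) = 2 * (m : ℤ) + 1 - U ^ 2 := by
    rw [split] at hbb
    have e1 : 4 * b i ^ 2 = (U - 1) ^ 2 := by
      linear_combination (2 * b i + κ * (U - 1)) * hbi + (U - 1) ^ 2 * hκ2
    have e2 : 4 * b j ^ 2 = (U + 1) ^ 2 := by
      linear_combination (2 * b j + κ' * (-U - 1)) * hbj + (U + 1) ^ 2 * hκ2'
    linarith
  set E := (U + 1) + (U - 1) * s with hE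
  set E' := (1 - U) + (-U - 1) * s with hE'
  have hdi : 2 * (a i + b i * s) = κ * E := by
    rw [hE]; linear_combination hai + s * hbi
  have hdj : 2 * (a j + b j * s) = κ' * E' := by
    rw [hE']; linear_combination haj + s * hbj
  have hEne : E ≠ 0 := fun h0 => hne i (by rw [h0, mul_zero] at hdi; omega)
  have hE'ne : E' ≠ 0 := fun h0 => hne j (by rw [h0, mul_zero] at hdj; omega)
  have term : ∀ (l : ι) (k X Y : ℤ), k * k = 1 → Y ≠ 0 → 2 * b l = k * X →
      2 * (a l + b l * s) = k * Y →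
      (b l : ℚ) ^ 3 / ((a l + b l * s : ℤ) : ℚ) = (X : ℚ) ^ 3 / (4 * (Y : ℚ)) := by
    intro l k X Y hk2 hY hb hd
    have hb' : (b l : ℚ) = k * X / 2 := by
      rw [eq_div_iff two_ne_zero, mul_comm]; exact_mod_cast hb
    have hd' : ((a l + b l * s : ℤ) : ℚ) = k * Y / 2 := by
      rw [eq_div_iff two_ne_zero, mul_comm]; exact_mod_cast hd
    have hk0 : (k : ℚ) ≠ 0 := by
      intro h0; rw [Int.cast_eq_zero] at h0; simp [h0] at hk2
    have hY0 : (Y : ℚ) ≠ 0 := Int.cast_ne_zero.2 hY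
    have hk3 : (k : ℚ) * k = 1 := by exact_mod_cast hk2
    rw [hb', hd']
    field_simp
    linear_combination (4 * (X : ℚ) ^ 3) * hk3
  have hs0' : (s : ℚ) ≠ 0 := Int.cast_ne_zero.2 hs0
  have hs1' : (1 : ℚ) + s ≠ 0 := by
    rw [← Int.cast_one, ← Int.cast_add, Int.cast_ne_zero]; omega
  have hRterm : ∀ l ∈ R, (b l : ℚ) ^ 3 / ((a l + b l * s : ℤ) : ℚ) =
      (b l : ℚ) ^ 2 / (1 + s) := by
    intro l hl
    have hb0 : (b l : ℚ) ≠ 0 := by
      rw [Int.cast_ne_zero]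
      intro h0
      exact hne l (by rw [hrest l hl, h0]; ring)
    rw [hrest l hl, show ((b l + b l * s : ℤ) : ℚ) = (b l : ℚ) * (1 + s) by push_cast; ring,
      pow_succ, mul_comm (b l : ℚ) (1 + s), mul_div_mul_right _ _ hb0]
  rw [split, term i κ (U - 1) E hκ2 hEne hbi hdi, term j κ' (-U - 1) E' hκ2' hE'ne hbj hdj,
    Finset.sum_congr rfl hRterm, ← Finset.sum_div] at hcube
  have hRq : 2 * (∑ l ∈ R, (b l : ℚ) ^ 2) = 2 * (m : ℚ) + 1 - (U : ℚ) ^ 2 := by exact_mod_cast hRb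
  have hEq : (U : ℚ) + 1 + ((U : ℚ) - 1) * s ≠ 0 := by
    have := (Int.cast_ne_zero (α := ℚ)).2 hEne
    rw [hE] at this; push_cast at this; exact this
  have hE'q : (1 : ℚ) - U + (-(U : ℚ) - 1) * s ≠ 0 := by
    have := (Int.cast_ne_zero (α := ℚ)).2 hE'ne
    rw [hE'] at this; push_cast at this; exact this
  have key := exceptional_identity (s : ℚ) (U : ℚ) hs0' hs1' hEq hE'q
  have hzero : (1 - (s : ℚ)) * (1 - (U : ℚ) ^ 2) / (s * (1 + s) *
      (-((U + 1) + (U - 1) * s) * ((1 - U) + (-U - 1) * s))) = 0 := by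
    rw [← key]
    have hEc : (E : ℚ) = (U : ℚ) + 1 + ((U : ℚ) - 1) * s := by rw [hE]; push_cast; ring
    have hE'c : (E' : ℚ) = 1 - (U : ℚ) + (-(U : ℚ) - 1) * s := by rw [hE']; push_cast; ring
    push_cast at hcube
    rw [hEc, hE'c] at hcube
    have h5 : (∑ l ∈ R, (b l : ℚ) ^ 2) / (1 + s) =
        (m : ℚ) / (1 + s) + (1 - (U : ℚ) ^ 2) / (2 * (1 + s)) := by
      field_simp
      linarith
    linarith
  rw [div_eq_zero_iff] at hzero
  rcases hzero with hz | hz
  · rcases mul_eq_zero.1 hz with h1 | h1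
    · exact hs1 (by exact_mod_cast (sub_eq_zero.1 h1).symm)
    · exact hU1 (by exact_mod_cast (sub_eq_zero.1 h1).symm)
  · simp only [mul_eq_zero, neg_eq_zero] at hz
    tauto

end Cfsg.Agent.SmithTyrer
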