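import Cfsg.Agent.Lib.SmithTyrer.Config
import Cfsg.Agent.Lib.SmithTyrer.Vectors
import Cfsg.Agent.Lib.BlockCount.Criterion
import Cfsg.Agent.Lib.Blocks.ThirdMain
import Cfsg.Agent.Lib.Blocks.PPrimeNormal
import Cfsg.Agent.Lib.Char.Linear
import Cfsg.Agent.Lib.Char.KernelSum

/-!
# The principal block of a simple group with an inverted abelian Sylow subgroup

The principal block consists of the principal character, one character `η₀` that is constant on
`P \ {1}`, and exceptional characters; on `p`-regular elements every member is an integral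
combination of `1` and `Φ = ± η₀`.
-/

set_option autoImplicit false
set_option linter.style.haveILetI false
set_option linter.unusedSectionVars false

open scoped Classical ComplexConjugate

namespace Cfsg.Agent.SmithTyrer

universe u

variable {G : Type u} [Group G] [Fintype G] {p : ℕ} [hp : Fact p.Prime] {M : Ideal Cfsg.AlgInt}
  {P : Sylow p G}

local notation "PP" => ((P : Subgroup G) : Type _)

theorem exists_pow_orderOf {x : G} (hx : x ∈ (P : Subgroup G)) : ∃ k, orderOf x = p ^ k := by
  obtain ⟨k, hk⟩ := (IsPGroup.iff_orderOf.1 P.isPGroup') ⟨x, hx⟩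
  exact ⟨k, by rwa [Subgroup.orderOf_mk] at hk⟩

theorem isPPart_self {x : G} (hx : ∃ k, orderOf x = p ^ k) : Cfsg.IsPPart p x x :=
  ⟨1, mul_one _, Commute.one_right _, hx, by simp [hp.out.ne_one]⟩

theorem isPPart_one_of_regular {g : G} (hg : ¬ p ∣ orderOf g) : Cfsg.IsPPart p g 1 :=
  ⟨g, one_mul _, Commute.one_left _, ⟨0, by simp⟩, hg⟩

/-- The coefficient `⟨η|P, α⟩ - ⟨η|P, 1⟩`. -/
noncomputable def V (η : Cfsg.IrrCharacter G)
    (α : Cfsg.IrrCharacter (P : Subgroup G)) : ℂ :=
  Cfsg.classInner (fun x : (P : Subgroup G) => η.1 x) α.1 -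
    Cfsg.classInner (fun x : (P : Subgroup G) => η.1 x) (Char.trivialChar (P : Subgroup G)).1

theorem exists_int_V (η : Cfsg.IrrCharacter G) (α : Cfsg.IrrCharacter (P : Subgroup G)) :
    ∃ z : ℤ, V η α = z := by
  have hres := Char.IsCharacter.restrict (Char.irr_isCharacter η) (P : Subgroup G)
  obtain ⟨a, ha⟩ := Char.IsCharacter.exists_nat_classInner hres (Char.irr_isCharacter α)
  obtain ⟨b, hb⟩ := Char.IsCharacter.exists_nat_classInner hres
    (Char.irr_isCharacter (Char.trivialChar (P : Subgroup G)))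
  exact ⟨(a : ℤ) - b, by rw [V, ha, hb]; push_cast; ring⟩

omit hp in
theorem V_eq (η : Cfsg.IrrCharacter G) (α : Cfsg.IrrCharacter (P : Subgroup G)) :
    V η α = (Nat.card (P : Subgroup G) : ℂ)⁻¹ *
      ∑ x : (P : Subgroup G), η.1 x * (conj (α.1 x) - 1) := by
  simp only [V, Cfsg.classInner, Char.trivialChar_apply, map_one, mul_one, mul_sub,
    Finset.sum_sub_distrib]

theorem conj_V (η : Cfsg.IrrCharacter G) (α : Cfsg.IrrCharacter (P : Subgroup G)) :
    conj (V η α) = V η α := by
  obtain ⟨z, hz⟩ := exists_int_V η α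
  rw [hz, map_intCast]

variable (h : IsInvConfig P)
include h

theorem comm_sub (a b : (P : Subgroup G)) : a * b = b * a := h.comm.is_comm.comm a b

theorem linear_apply_one (α : Cfsg.IrrCharacter (P : Subgroup G)) : α.1 1 = 1 :=
  Char.apply_one_of_comm (comm_sub h) α

theorem linear_sum (x : (P : Subgroup G)) (hx : x ≠ 1) :
    ∑ β : Cfsg.IrrCharacter (P : Subgroup G), β.1 x = 0 := by
  have h1 := Char.sum_irr_degree_mul x
  rw [if_neg hx] at h1
  simpa [linear_apply_one h] using h1

/-- The restriction of a character to `P \ {1}` through its coefficients. -/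
theorem apply_eq_sum_V (η : Cfsg.IrrCharacter G) (x : (P : Subgroup G)) (hx : x ≠ 1) :
    η.1 x = ∑ α : Cfsg.IrrCharacter (P : Subgroup G), V η α * α.1 x := by
  have h1 := congrFun (Char.eq_sum_classInner_smul (Char.IsCharacter.isClassFunction
    (Char.IsCharacter.restrict (Char.irr_isCharacter η) (P : Subgroup G)))) x
  simp only [Finset.sum_apply, Pi.smul_apply, smul_eq_mul] at h1
  simp only [V, sub_mul, Finset.sum_sub_distrib, ← Finset.mul_sum, linear_sum h
    x hx, mul_zero, sub_zero]
  exact h1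

theorem sum_conj_mul (α β : Cfsg.IrrCharacter (P : Subgroup G)) :
    ∑ x : (P : Subgroup G), α.1 x * conj (β.1 x) =
      if α = β then (Nat.card (P : Subgroup G) : ℂ) else 0 := by
  have h1 := Char.classInner_irr α β
  rw [Cfsg.classInner, inv_mul_eq_iff_eq_mul₀ Char.card_ne_zero] at h1
  rw [h1]
  split_ifs <;> simp

/-- The conjugate linear character. -/
noncomputable def cj (α : Cfsg.IrrCharacter (P : Subgroup G)) :
    Cfsg.IrrCharacter (P : Subgroup G) :=
  ⟨fun x => conj (α.1 x), Char.IsIrrCharacter.conj_fun α.2⟩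

variable (hodd : p ≠ 2)
include hodd

omit h in
theorem odd_card : Odd (Nat.card (P : Subgroup G)) := by
  obtain ⟨a, ha⟩ := IsPGroup.iff_card.1 P.isPGroup'
  rw [ha]
  exact (hp.out.odd_of_ne_two hodd).pow

theorem cj_ne {α : Cfsg.IrrCharacter (P : Subgroup G)}
    (hα : α ≠ Char.trivialChar (P : Subgroup G)) : cj α ≠ α := by
  intro he
  apply hα
  obtain ⟨lam, hl⟩ := Char.IsCharacter.exists_monoidHom (Char.irr_isCharacter α)
    (linear_apply_one h α)
  apply Subtype.ext
  funext x
  have h1 : conj (α.1 x) = α.1 x := congrFun (congrArg Subtype.val he) x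
  have h2 := Char.normSq_linear lam x
  rw [show lam x = α.1 x from congrFun hl x, h1, mul_self_eq_one_iff] at h2
  rcases h2 with h2 | h2
  · simpa using h2
  · exfalso
    have h3 : lam x ^ Nat.card (P : Subgroup G) = 1 := by
      rw [← map_pow, pow_card_eq_one', map_one]
    rw [show lam x = α.1 x from congrFun hl x, h2, (odd_card hodd).neg_one_pow] at h3
    norm_num at h3

variable (hM : Cfsg.IsPModular p M)
include hM

/-- Orthogonality of the columns of the principal block at two non-identity elements of `P`. -/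
theorem sum_block_mul_conj_of_mem (x y : (P : Subgroup G)) (hx : x ≠ 1) :
    ∑ η ∈ Finset.univ.filter (· ∈ Cfsg.principalBlock M G),
        η.1 (x : G) * conj (η.1 (y : G)) =
      if y = x ∨ y = x⁻¹ then (Nat.card (P : Subgroup G) : ℂ) else 0 := by
  haveI := hM.2.1
  have hB := Blocks.isPBlock_principalBlock (G := G) hM.2.2
  have hx1 : (x : G) ≠ 1 := fun e => hx (Subtype.ext e)
  have hxp := exists_pow_orderOf x.2
  split_ifs with hy
  · have hconj : ∀ η : Cfsg.IrrCharacter G, η.1 (y : G) = η.1 (x : G) := by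
      intro η
      refine (CharInt.char_eq_of_isConj (Char.irr_isCharacter η) ?_).symm
      rw [h.isConj_iff_eq x.2 y.2]
      exact hy.imp (congrArg Subtype.val) (fun e => by rw [e]; rfl)
    set C := Subgroup.centralizer ({(x : G)} : Set G) with hC
    haveI := Fintype.ofFinite C
    have hPC : (P : Subgroup G) ≤ C := fun z hz =>
      Subgroup.mem_centralizer_singleton_iff.2 (mul_comm_of_mem h.comm hz x.2)
    have hfix : ∀ d ∈ C, d * (x : G) * d⁻¹ = x := fun d hd =>
      mul_inv_eq_iff_eq_mul.2 (Subgroup.mem_centralizer_singleton_iff.1 hd)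
    obtain ⟨hidx, -⟩ := h.index_pPrimeCore_of_centralizes hodd hPC x.2 hx1 hfix
    obtain ⟨a, ha⟩ := IsPGroup.iff_card.1 P.isPGroup'
    have h1 : (1 : C) = (1 : C) := rfl
    have hreg : Cfsg.IsPRegular p (1 : C) := by simp [Cfsg.IsPRegular, hp.out.ne_one]
    have h2 := Blocks.second_main_orth hM.2.2 hxp hB hreg hreg
    simp only [Subgroup.coe_one, mul_one] at h2
    rw [Finset.sum_congr rfl fun η _ => by rw [hconj η], h2,
      Blocks.inducingSet_principalBlock hM.2.2 hxp,
      Blocks.principalBlock_eq_of_index hM.2.2 ⟨a, hidx.trans ha⟩]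
    have h3 := Char.sum_trivOn_degree_sq (Cfsg.pPrimeCore p C)
    rw [hidx] at h3
    rw [← h3, Nat.cast_sum]
    refine Finset.sum_congr (Finset.ext fun η => by
      simp only [Finset.mem_filter, Finset.mem_univ, true_and]; rfl) fun η _ => ?_
    rw [← Char.charDegree_cast, map_natCast]
    push_cast
    ring
  · refine Blocks.block_orthogonality hM.2.2 (isPPart_self hxp)
      (isPPart_self (exists_pow_orderOf y.2)) ?_ hB
    rw [h.isConj_iff_eq x.2 y.2]
    exact fun e => hy (e.imp Subtype.ext fun e' => Subtype.ext e')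

/-- The Gram matrix of the coefficient vectors. -/
theorem sum_V_mul_V {α β : Cfsg.IrrCharacter (P : Subgroup G)}
    (hα : α ≠ Char.trivialChar (P : Subgroup G)) (hβ : β ≠ Char.trivialChar (P : Subgroup G)) :
    ∑ η ∈ Finset.univ.filter (· ∈ Cfsg.principalBlock M G), V η α * V η β =
      (if α = β then 1 else 0) + (if cj α = β then 1 else 0) + 2 := by
  set q : ℂ := (Nat.card (P : Subgroup G) : ℂ) with hq
  have hq0 : q ≠ 0 := Char.card_ne_zero
  have e1 : ∀ η : Cfsg.IrrCharacter G, V η α * V η β = q⁻¹ * q⁻¹ *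
      ∑ x : (P : Subgroup G), ∑ y : (P : Subgroup G),
        (conj (α.1 x) - 1) * (β.1 y - 1) * (η.1 x * conj (η.1 y)) := by
    intro η
    conv_lhs => rw [← conj_V η β, V_eq, V_eq]
    simp only [map_mul, map_inv₀, map_natCast, map_sum, map_sub, map_one, Complex.conj_conj, hq]
    rw [mul_mul_mul_comm, Finset.sum_mul_sum]
    congr 1
    exact Finset.sum_congr rfl fun x _ => Finset.sum_congr rfl fun y _ => by ring
  rw [Finset.sum_congr rfl fun η _ => e1 η, ← Finset.mul_sum, Finset.sum_comm]
  have e2 : ∀ x : (P : Subgroup G),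
      ∑ η ∈ Finset.univ.filter (· ∈ Cfsg.principalBlock M G), ∑ y : (P : Subgroup G),
        (conj (α.1 x) - 1) * (β.1 y - 1) * (η.1 x * conj (η.1 y)) =
      q * ((conj (α.1 x) - 1) * (β.1 x - 1) + (conj (α.1 x) - 1) * (conj (β.1 x) - 1)) := by
    intro x
    by_cases hx : x = 1
    · subst hx
      simp [linear_apply_one h]
    rw [Finset.sum_comm]
    simp only [← Finset.mul_sum, sum_block_mul_conj_of_mem h hodd hM x _ hx]
    have hxi : x ≠ x⁻¹ := fun e => hx (Subtype.ext
      (eq_one_of_eq_inv_of_mem hodd x.2 (congrArg Subtype.val e)))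
    have hinv : β.1 x⁻¹ = conj (β.1 x) :=
      CharInt.char_inv (Char.irr_isCharacter β) x
    rw [Finset.sum_eq_add x x⁻¹ hxi (fun c _ hc => by
      rw [if_neg (fun e => e.elim hc.1 hc.2), mul_zero]) (by simp) (by simp),
      if_pos (Or.inl rfl), if_pos (Or.inr rfl), hinv]
    ring
  rw [Finset.sum_congr rfl fun x _ => e2 x, ← Finset.mul_sum, Finset.sum_add_distrib]
  have s1 : ∀ γ : Cfsg.IrrCharacter (P : Subgroup G), γ ≠ Char.trivialChar _ →
      ∑ x : (P : Subgroup G), γ.1 x = 0 := fun γ hγ => by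
    have := sum_conj_mul h γ (Char.trivialChar _)
    simpa [hγ] using this
  have s1c : ∀ γ : Cfsg.IrrCharacter (P : Subgroup G), γ ≠ Char.trivialChar _ →
      ∑ x : (P : Subgroup G), conj (γ.1 x) = 0 := fun γ hγ => by
    rw [← map_sum, s1 γ hγ, map_zero]
  have t1 : ∑ x : (P : Subgroup G), (conj (α.1 x) - 1) * (β.1 x - 1) =
      (if α = β then q else 0) + q := by
    have h1 := sum_conj_mul h β α
    simp only [sub_mul, mul_sub, one_mul, mul_one, Finset.sum_sub_distrib, s1 β hβ, s1c α hα,
      Finset.sum_const, Finset.card_univ, nsmul_eq_mul, mul_one]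
    rw [Finset.sum_congr rfl fun x _ => mul_comm (conj (α.1 x)) (β.1 x), h1, hq,
      Nat.card_eq_fintype_card]
    simp only [eq_comm (a := β)]
    ring
  have t2 : ∑ x : (P : Subgroup G), (conj (α.1 x) - 1) * (conj (β.1 x) - 1) =
      (if cj α = β then q else 0) + q := by
    have h1 := sum_conj_mul h (cj α) β
    simp only [sub_mul, mul_sub, one_mul, mul_one, Finset.sum_sub_distrib, s1c β hβ, s1c α hα,
      Finset.sum_const, Finset.card_univ, nsmul_eq_mul, mul_one]
    rw [show ∑ x : (P : Subgroup G), conj (α.1 x) * conj (β.1 x) = _ from h1, hq,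
      Nat.card_eq_fintype_card]
    ring
  rw [t1, t2]
  split_ifs <;> field_simp <;> ring

/-- The relation between the columns at regular elements and the coefficients. -/
theorem sum_V_mul_regular (α : Cfsg.IrrCharacter (P : Subgroup G)) {g : G}
    (hg : ¬ p ∣ orderOf g) :
    ∑ η ∈ Finset.univ.filter (· ∈ Cfsg.principalBlock M G), V η α * conj (η.1 g) = 0 := by
  haveI := hM.2.1
  simp only [V_eq, mul_assoc, Finset.sum_mul, ← Finset.mul_sum]
  rw [Finset.sum_comm, Finset.sum_eq_zero fun x _ => ?_, mul_zero]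
  by_cases hx : x = 1
  · subst hx
    simp [linear_apply_one h]
  have h1 := Blocks.block_orthogonality hM.2.2 (isPPart_self (exists_pow_orderOf x.2))
    (isPPart_one_of_regular hg) (fun e => hx (Subtype.ext (isConj_one_left.1 e)))
    (Blocks.isPBlock_principalBlock (G := G) hM.2.2)
  rw [Finset.sum_congr rfl fun η _ => show η.1 (x : G) * ((conj (α.1 x) - 1) * conj (η.1 g)) =
    (conj (α.1 x) - 1) * (η.1 (x : G) * conj (η.1 g)) by ring, ← Finset.mul_sum, h1, mul_zero]

omit hodd hM in
theorem V_trivialChar (α : Cfsg.IrrCharacter (P : Subgroup G))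
    (hα : α ≠ Char.trivialChar (P : Subgroup G)) : V (Char.trivialChar G) α = -1 := by
  rw [V, show (fun x : (P : Subgroup G) => (Char.trivialChar G).1 x) =
    (Char.trivialChar (P : Subgroup G)).1 from rfl, Char.classInner_irr, Char.classInner_irr,
    if_neg (Ne.symm hα), if_pos rfl, zero_sub]

/-- A character of the principal block that vanishes on `P \ {1}` cannot exist. -/
theorem exists_apply_ne_zero {η : Cfsg.IrrCharacter G} (hη : η ∈ Cfsg.principalBlock M G)
    (hne : η ≠ Char.trivialChar G) : ∃ x : (P : Subgroup G), x ≠ 1 ∧ η.1 x ≠ 0 := by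
  haveI := hM.2.1
  by_contra hcon
  push Not at hcon
  apply (BlockCount.mem_principalBlock_iff hM η).1 hη
  have hsum : ∑ g : G, η.1 g = 0 := by
    have h1 := Char.classInner_irr η (Char.trivialChar G)
    rw [if_neg hne, Cfsg.classInner, mul_eq_zero,
      or_iff_right (inv_ne_zero Char.card_ne_zero)] at h1
    simpa using h1
  rw [BlockCount.pregSum, ← hsum]
  refine Finset.sum_subset (Finset.subset_univ _) fun g _ hg => ?_
  have hd : p ∣ orderOf g := by simpa using hg
  obtain ⟨z, hz⟩ := Blocks.exists_isPPart (p := p) g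
  obtain ⟨k, hk⟩ := Blocks.IsPPart.isPElement hz
  obtain ⟨c, hc⟩ : ∃ c : G, c * z * c⁻¹ ∈ (P : Subgroup G) := by
    obtain ⟨Q, hQ⟩ := (IsPGroup.of_card (n := k)
      (by rw [Nat.card_zpowers, hk]) : IsPGroup p (Subgroup.zpowers z)).exists_le_sylow
    obtain ⟨c, hc⟩ := MulAction.exists_smul_eq G Q P
    exact ⟨c, hc ▸ ⟨z, hQ (Subgroup.mem_zpowers z), rfl⟩⟩
  obtain ⟨y, hy, hxy, hxk, hyr⟩ := Blocks.IsPPart.conj hz c
  have hx1 : c * z * c⁻¹ ≠ 1 := by
    intro e
    rw [e, one_mul] at hy
    apply hyr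
    rw [hy]
    simpa [MulEquiv.orderOf_eq (MulAut.conj c) g] using
      (MulEquiv.orderOf_eq (MulAut.conj c) g).symm ▸ hd
  set x := c * z * c⁻¹ with hx
  have hycore : y ∈ Cfsg.centralizerPPrimeCore p x := by
    set C := Subgroup.centralizer ({x} : Set G) with hC
    have hyC : y ∈ C := Subgroup.mem_centralizer_singleton_iff.2 hxy.eq.symm
    obtain ⟨hidx, -⟩ := h.index_pPrimeCore_of_centralizes hodd (D := C)
      (fun w hw => Subgroup.mem_centralizer_singleton_iff.2 (mul_comm_of_mem h.comm hw hc)) hc hx1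
      (fun d hd' => mul_inv_eq_iff_eq_mul.2 (Subgroup.mem_centralizer_singleton_iff.1 hd'))
    refine ⟨⟨y, hyC⟩, ?_, rfl⟩
    obtain ⟨a, ha⟩ := IsPGroup.iff_card.1 P.isPGroup'
    have h1 : orderOf ((⟨y, hyC⟩ : C) : C ⧸ Cfsg.pPrimeCore p C) ∣ orderOf (⟨y, hyC⟩ : C) :=
      orderOf_map_dvd (QuotientGroup.mk' _) _
    have h2 : orderOf ((⟨y, hyC⟩ : C) : C ⧸ Cfsg.pPrimeCore p C) ∣ p ^ a := by
      rw [← ha, ← hidx, Subgroup.index_eq_card]; exact orderOf_dvd_natCard _
    rw [Subgroup.orderOf_mk] at h1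
    exact (QuotientGroup.eq_one_iff _).1 (orderOf_eq_one_iff.1 (Nat.eq_one_of_dvd_coprimes
      (Nat.Coprime.pow_left _ ((Nat.Prime.coprime_iff_not_dvd hp.out).2 hyr)) h2 h1))
  have h3 := Blocks.principal_apply_mul_core hM.2.2 hxk hycore hη
  rw [hy, CharInt.char_conj_apply (Char.irr_isCharacter η)] at h3
  rw [h3]
  exact hcon ⟨x, hc⟩ fun e => hx1 (congrArg Subtype.val e)

end Cfsg.Agent.SmithTyrer
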