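import Cfsg.Agent.Lib.SmithTyrer.Block

/-!
# The members of the principal block on the regular elements
-/

set_option autoImplicit false
set_option linter.style.haveILetI false
set_option linter.unusedSectionVars false

open scoped Classical ComplexConjugate

namespace Cfsg.Agent.SmithTyrer

universe u

variable {G : Type u} [Group G] [Fintype G] {p : ℕ} [hp : Fact p.Prime] {M : Ideal Cfsg.AlgInt}
  {P : Sylow p G}

/-- The values of the principal block on `p`-regular elements: every member is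
`a η + b η * Φ`. -/
structure BlockData (p : ℕ) (M : Ideal Cfsg.AlgInt) (G : Type u) [Group G] [Fintype G] where
  m : ℕ
  s : ℤ
  Φ : G → ℂ
  a : Cfsg.IrrCharacter G → ℤ
  b : Cfsg.IrrCharacter G → ℤ
  s_ne_zero : s ≠ 0
  s_ne_one : s ≠ 1
  s_ne_neg_one : s ≠ -1
  dvd_s : (p : ℤ) ∣ s - 1
  Φ_one : Φ 1 = s
  Φ_ne : ∀ g : G, g ≠ 1 → Φ g ≠ s
  apply_eq : ∀ η ∈ Cfsg.principalBlock M G, ∀ g : G, ¬ p ∣ orderOf g →
    η.1 g = a η + b η * Φ g
  sum_aa : ∑ η ∈ Finset.univ.filter (· ∈ Cfsg.principalBlock M G), a η ^ 2 = (m : ℤ) + 1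
  sum_ab : ∑ η ∈ Finset.univ.filter (· ∈ Cfsg.principalBlock M G), a η * b η = (m : ℤ)
  sum_bb : ∑ η ∈ Finset.univ.filter (· ∈ Cfsg.principalBlock M G), b η ^ 2 = (m : ℤ) + 1
  sum_cube : ∑ η ∈ Finset.univ.filter (· ∈ Cfsg.principalBlock M G),
    (b η : ℂ) ^ 3 / ((a η + b η * s : ℤ) : ℂ) = 1 / (s : ℂ) + (m : ℂ) / (1 + s)

theorem card_ge_nine (h : IsInvConfig P) (hodd : p ≠ 2) : 9 ≤ Nat.card (P : Subgroup G) := by
  obtain ⟨a, ha⟩ := IsPGroup.iff_card.1 P.isPGroup'
  have h3 : 3 ≤ p := by have := hp.out.two_le; omega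
  rcases Nat.lt_or_ge a 2 with h2 | h2
  · exfalso
    apply h.noncyclic
    interval_cases a
    · haveI : Subsingleton (P : Subgroup G) :=
        (Nat.card_eq_one_iff_unique.1 (by simpa using ha)).1
      exact inferInstance
    · exact isCyclic_of_prime_card (p := p) (by simpa using ha)
  · rw [ha]
    calc 9 = 3 ^ 2 := by norm_num
      _ ≤ p ^ 2 := Nat.pow_le_pow_left h3 2
      _ ≤ p ^ a := Nat.pow_le_pow_right hp.out.pos h2

theorem card_linearChars (h : IsInvConfig P) :
    Nat.card (Cfsg.IrrCharacter (P : Subgroup G)) = Nat.card (P : Subgroup G) := by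
  rw [Char.card_irr]
  refine (Nat.card_congr (Equiv.ofBijective (ConjClasses.mk (α := ↥(P : Subgroup G)))
    ⟨fun a b hab => ?_, ConjClasses.mk_surjective⟩)).symm
  obtain ⟨c, hc⟩ := isConj_iff.1 (ConjClasses.mk_eq_mk_iff_isConj.1 hab)
  rw [comm_sub h c a, mul_inv_cancel_right] at hc
  exact hc

/-- Only the identity lies in the kernel of a non-trivial character of a simple group. -/
theorem eq_one_of_apply_eq_degree [IsSimpleGroup G] {η : Cfsg.IrrCharacter G}
    (hne : η ≠ Char.trivialChar G) {g : G} (hg : η.1 g = η.1 1) : g = 1 := by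
  have hmem := (CharInt.mem_charKernel (Char.irr_isCharacter η)).2 hg
  rcases (CharInt.charKernel_normal (Char.irr_isCharacter η)).eq_bot_or_eq_top with hb | ht
  · rw [hb] at hmem
    exact Subgroup.mem_bot.1 hmem
  · exfalso
    have h1 : ∀ x : G, η.1 x = η.1 1 := fun x =>
      (CharInt.mem_charKernel (Char.irr_isCharacter η)).1 (ht ▸ Subgroup.mem_top x)
    have h2 := Char.classInner_irr η (Char.trivialChar G)
    rw [if_neg hne, Cfsg.classInner] at h2
    simp only [h1, Char.trivialChar_apply, map_one, mul_one, Finset.sum_const, Finset.card_univ,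
      nsmul_eq_mul, ← Nat.card_eq_fintype_card, mul_eq_zero, inv_eq_zero, Char.card_ne_zero,
      false_or] at h2
    exact Char.IsIrrCharacter.apply_one_ne_zero η.2 h2

set_option maxHeartbeats 1000000 in
/-- The structure of the principal block. -/
theorem exists_blockData [IsSimpleGroup G] (h : IsInvConfig P) (hodd : p ≠ 2)
    (hM : Cfsg.IsPModular p M) : Nonempty (BlockData p M G) := by
  haveI := hM.2.1
  set B := Finset.univ.filter (· ∈ Cfsg.principalBlock M G) with hB
  set one := Char.trivialChar G with hone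
  have h1B : one ∈ B := Finset.mem_filter.2
    ⟨Finset.mem_univ _, Blocks.mem_blockOf_self (M := M) one⟩
  choose z hz using fun (η : Cfsg.IrrCharacter G) (α : Cfsg.IrrCharacter (P : Subgroup G)) =>
    exists_int_V η α
  let κ := {η : Cfsg.IrrCharacter G // η ∈ B.erase one}
  let A := {α : Cfsg.IrrCharacter (P : Subgroup G) // α ≠ Char.trivialChar (P : Subgroup G)}
  let W : A → κ → ℤ := fun α η => z η.1 α.1
  have hz1 : ∀ α : A, z one α.1 = -1 := by
    intro α
    have h1 := V_trivialChar h α.1 α.2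
    rw [hz] at h1
    exact_mod_cast h1
  have gram : ∀ α β : A, W α ⬝ᵥ W β =
      (if α = β then 1 else 0) + (if cj α.1 = β.1 then 1 else 0) + 1 := by
    intro α β
    have h1 := sum_V_mul_V h hodd hM α.2 β.2
    simp only [hz] at h1
    rw [← hB, ← Finset.add_sum_erase _ _ h1B, hz1, hz1] at h1
    have h2 : W α ⬝ᵥ W β = ∑ η ∈ B.erase one, z η α.1 * z η β.1 :=
      (Finset.sum_subtype (B.erase one) (fun _ => Iff.rfl) (fun η => z η α.1 * z η β.1)).symm
    rw [h2]
    apply Int.cast_injective (α := ℂ)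
    push_cast
    rw [show (if α = β then (1 : ℂ) else 0) = if α.1 = β.1 then 1 else 0 from
      if_congr Subtype.ext_iff rfl rfl]
    push_cast at h1
    linear_combination h1
  have hcjn : ∀ α : A, cj α.1 ≠ α.1 := fun α => cj_ne h hodd α.2
  have hnorm : ∀ α : A, W α ⬝ᵥ W α = 2 := fun α => by
    rw [gram, if_pos rfl, if_neg (hcjn α)]; norm_num
  have hinner : ∀ α β : A, ¬ (α = β ∨ cj α.1 = β.1) → W α ⬝ᵥ W β = 1 := fun α β hab => by
    rw [not_or] at hab
    rw [gram, if_neg hab.1, if_neg hab.2]; norm_num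
  have heqv : ∀ α β : A, (α = β ∨ cj α.1 = β.1) → W α = W β := by
    rintro α β (rfl | hab)
    · rfl
    · refine sub_eq_zero.1 (dotProduct_self_eq_zero.1 ?_)
      have hne : α ≠ β := fun e => hcjn α (e ▸ hab)
      rw [sub_dotProduct, dotProduct_sub, dotProduct_sub, dotProduct_comm (W β) (W α), hnorm, hnorm,
        gram, if_neg hne, if_pos hab]
      norm_num
  have hbig : ∀ α β γ : A, ∃ δ : A, ¬ (α = δ ∨ cj α.1 = δ.1) ∧ ¬ (β = δ ∨ cj β.1 = δ.1) ∧
      ¬ (γ = δ ∨ cj γ.1 = δ.1) := by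
    intro α β γ
    let L : Finset (Cfsg.IrrCharacter (P : Subgroup G)) :=
      [Char.trivialChar (P : Subgroup G), α.1, cj α.1, β.1, cj β.1, γ.1, cj γ.1].toFinset
    have hL : L.card < Fintype.card (Cfsg.IrrCharacter (P : Subgroup G)) := by
      have h1 : L.card ≤ 7 := List.toFinset_card_le _
      rw [← Nat.card_eq_fintype_card, card_linearChars h]
      have := card_ge_nine h hodd
      omega
    obtain ⟨d, hd⟩ : ∃ d, d ∉ L := by
      by_contra hcon
      push Not at hcon
      rw [Finset.eq_univ_of_forall hcon, Finset.card_univ] at hL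
      exact lt_irrefl _ hL
    simp only [L, List.mem_toFinset, List.mem_cons, List.not_mem_nil, or_false, not_or] at hd
    exact ⟨⟨d, hd.1⟩, not_or.2 ⟨fun e => hd.2.1 (congrArg Subtype.val e).symm, Ne.symm hd.2.2.1⟩,
      not_or.2 ⟨fun e => hd.2.2.2.1 (congrArg Subtype.val e).symm, Ne.symm hd.2.2.2.2.1⟩,
      not_or.2 ⟨fun e => hd.2.2.2.2.2.1 (congrArg Subtype.val e).symm, Ne.symm hd.2.2.2.2.2.2⟩⟩
  haveI : Nonempty A := by
    obtain ⟨d, hd⟩ : ∃ d, d ≠ Char.trivialChar (P : Subgroup G) := by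
      by_contra hcon
      push Not at hcon
      haveI : Subsingleton (Cfsg.IrrCharacter (P : Subgroup G)) :=
        ⟨fun x y => (hcon x).trans (hcon y).symm⟩
      have h9 := card_ge_nine h hodd
      rw [← card_linearChars h] at h9
      have := Finite.card_le_one_iff_subsingleton.2 this
      omega
    exact ⟨⟨d, hd⟩⟩
  obtain ⟨u, hu, huW⟩ := exists_common_unit W _ heqv hnorm hinner hbig
  obtain ⟨i₀, e₀, he₀, rfl⟩ := hu.exists_single
  have hsub : ∀ α : A, ∃ (i : κ) (e : ℤ), (e = 1 ∨ e = -1) ∧ i ≠ i₀ ∧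
      W α = Pi.single i₀ e₀ + Pi.single i e := by
    intro α
    have hv := isUnitVec_sub hu (hnorm α) (huW α)
    obtain ⟨i, e, he, hie⟩ := hv.exists_single
    refine ⟨i, e, he, ?_, by rw [← hie]; abel⟩
    rintro rfl
    have h1 : Pi.single i e₀ ⬝ᵥ (W α - Pi.single i e₀) = 0 := by
      rw [dotProduct_sub, huW, show Pi.single i e₀ ⬝ᵥ Pi.single i e₀ = 1 from hu]; norm_num
    rw [hie, single_dotProduct, Pi.single_eq_same] at h1
    rcases he₀ with rfl | rfl <;> rcases he with rfl | rfl <;> norm_num at h1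
  choose f e he hfi hW using hsub
  set η₀ : Cfsg.IrrCharacter G := i₀.1 with hη₀
  have hη₀' : η₀ ≠ one ∧ η₀ ∈ B := Finset.mem_erase.1 i₀.2
  set δ : ℤ := -e₀ with hδ
  have hδ2 : δ * δ = 1 := by rcases he₀ with rfl | rfl <;> norm_num [hδ]
  have hzV : ∀ (α : A) (η : κ), z η.1 α.1 = (Pi.single i₀ e₀ + Pi.single (f α) (e α) : κ → ℤ) η :=
    fun α η => congrFun (hW α) η
  have hzero : ∀ η : Cfsg.IrrCharacter G, z η (Char.trivialChar (P : Subgroup G)) = 0 := by
    intro η
    have h1 := hz η (Char.trivialChar (P : Subgroup G))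
    rw [V, sub_self] at h1
    exact_mod_cast h1.symm
  -- the value of `η₀` on `P \ {1}`
  have hval : ∀ x : (P : Subgroup G), x ≠ 1 → η₀.1 x = δ := by
    intro x hx
    rw [apply_eq_sum_V h η₀ x hx, ← Finset.add_sum_erase _ _
      (Finset.mem_univ (Char.trivialChar (P : Subgroup G))), hz, hzero, Int.cast_zero, zero_mul,
      zero_add]
    have h1 := linear_sum h x hx
    rw [← Finset.add_sum_erase _ _ (Finset.mem_univ (Char.trivialChar (P : Subgroup G))),
      Char.trivialChar_apply] at h1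
    rw [Finset.sum_congr rfl (g := fun α => (e₀ : ℂ) * α.1 x) fun α hα => ?_, ← Finset.mul_sum,
      hδ, Int.cast_neg]
    · linear_combination (e₀ : ℂ) * h1
    · rw [hz, hη₀, hzV ⟨α, (Finset.mem_erase.1 hα).1⟩ i₀, Pi.add_apply, Pi.single_eq_same,
        Pi.single_eq_of_ne (Ne.symm (hfi ⟨α, (Finset.mem_erase.1 hα).1⟩)), add_zero]
  -- the degree
  set d := Char.degree η₀ with hd
  set q := Nat.card (P : Subgroup G) with hq
  obtain ⟨n, hn⟩ := Char.IsCharacter.exists_nat_classInner
    (Char.IsCharacter.restrict (Char.irr_isCharacter η₀) (P : Subgroup G))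
    (Char.irr_isCharacter (Char.trivialChar (P : Subgroup G)))
  have hdq : (q : ℤ) ∣ (d : ℤ) - δ := by
    refine ⟨n - δ, ?_⟩
    rw [Cfsg.classInner, inv_mul_eq_iff_eq_mul₀ Char.card_ne_zero,
      ← Finset.add_sum_erase _ _ (Finset.mem_univ (1 : (P : Subgroup G))),
      Finset.sum_congr rfl (g := fun _ => (δ : ℂ)) fun x hx => by
        rw [hval x (Finset.mem_erase.1 hx).1, Char.trivialChar_apply, map_one, mul_one]] at hn
    rw [Finset.sum_const, Finset.card_erase_of_mem (Finset.mem_univ _), Finset.card_univ,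
      ← Nat.card_eq_fintype_card, nsmul_eq_mul, Nat.cast_pred Nat.card_pos,
      Subgroup.coe_one, Char.trivialChar_apply, map_one, mul_one, Char.apply_one_eq_degree] at hn
    apply Int.cast_injective (α := ℂ)
    push_cast
    linear_combination hn
  have hd2 : 2 ≤ d := by
    have hd1 : 0 < d := Char.degree_pos η₀
    by_contra hlt
    have hd1' : d = 1 := by omega
    rw [hd1'] at hdq
    rcases he₀ with h' | h'
    · rw [hδ, h'] at hdq
      norm_num at hdq
      have h9 := card_ge_nine h hodd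
      have h2 := Int.le_of_dvd (by norm_num) hdq
      rw [← hq] at h9
      omega
    · obtain ⟨x, hxP, hx1⟩ := h.exists_ne_one
      refine hx1 (eq_one_of_apply_eq_degree hη₀'.1 (g := x) ?_)
      rw [hval ⟨x, hxP⟩ (fun e => hx1 (congrArg Subtype.val e)), Char.apply_one_eq_degree, ← hd,
        hd1', hδ, h']
      norm_num
  set s : ℤ := δ * d with hs
  have hδne : δ ≠ 0 := fun e => by simp [e] at hδ2
  have hsabs : s ≠ 0 ∧ s ≠ 1 ∧ s ≠ -1 := by
    rcases he₀ with h' | h' <;> · rw [hs, hδ, h']; omega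
  have hsdvd : (p : ℤ) ∣ s - 1 := by
    have hpq : (p : ℤ) ∣ (q : ℤ) := by
      obtain ⟨k, hk⟩ := IsPGroup.iff_card.1 P.isPGroup'
      have h9 := card_ge_nine h hodd
      rw [hq, hk]
      refine Int.natCast_dvd_natCast.2 (dvd_pow_self p ?_)
      rintro rfl
      rw [hk] at h9; norm_num at h9
    rw [show s - 1 = δ * ((d : ℤ) - δ) by rw [hs, mul_sub, hδ2]]
    exact dvd_mul_of_dvd_right (hpq.trans hdq) _
  -- the block
  let X : Finset (Cfsg.IrrCharacter G) := Finset.univ.image fun α : A => (f α).1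
  have hXne : ∀ η ∈ X, η ≠ one ∧ η ≠ η₀ ∧ η ∈ B := by
    intro η hη
    obtain ⟨α, -, rfl⟩ := Finset.mem_image.1 hη
    exact ⟨(Finset.mem_erase.1 (f α).2).1, fun e => hfi α (Subtype.ext e),
      (Finset.mem_erase.1 (f α).2).2⟩
  have hBeq : B = insert one (insert η₀ X) := by
    refine Finset.Subset.antisymm (fun η hη => ?_) ?_
    · simp only [Finset.mem_insert]
      by_contra hcon
      push Not at hcon
      obtain ⟨hne1, hne0, hneX⟩ := hcon
      obtain ⟨x, hx, hx0⟩ :=
        exists_apply_ne_zero h hodd hM (Finset.mem_filter.1 hη).2 hne1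
      apply hx0
      rw [apply_eq_sum_V h η x hx]
      refine Finset.sum_eq_zero fun α _ => ?_
      rw [hz]
      by_cases hα : α = Char.trivialChar (P : Subgroup G)
      · rw [hα, hzero, Int.cast_zero, zero_mul]
      · have hmem : η ∈ B.erase one := Finset.mem_erase.2 ⟨hne1, hη⟩
        have h1 := hzV ⟨α, hα⟩ ⟨η, hmem⟩
        simp only [Pi.add_apply] at h1
        rw [h1, Pi.single_eq_of_ne (fun e => hne0 (congrArg Subtype.val e)),
          Pi.single_eq_of_ne (fun e => hneX (Finset.mem_image.2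
            ⟨⟨α, hα⟩, Finset.mem_univ _, (congrArg Subtype.val e).symm⟩))]
        simp
    · intro η hη
      simp only [Finset.mem_insert] at hη
      rcases hη with rfl | rfl | hη
      · exact h1B
      · exact hη₀'.2
      · exact (hXne η hη).2.2
  let Φ : G → ℂ := fun g => (δ : ℂ) * η₀.1 g
  -- the exceptional characters on regular elements
  have hrel : ∀ (α : A) (g : G), ¬ p ∣ orderOf g →
      (e α : ℂ) * (f α).1.1 g = 1 + Φ g := by
    intro α g hg
    have h1 := sum_V_mul_regular h hodd hM α.1 hg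
    simp only [hz] at h1
    rw [← hB, ← Finset.add_sum_erase _ _ h1B, hz1,
      ← Finset.sum_coe_sort (B.erase one) (fun η => (z η α.1 : ℂ) * conj (η.1 g))]
      at h1
    simp only [hzV, Pi.add_apply, Int.cast_add, add_mul, Finset.sum_add_distrib] at h1
    rw [Finset.sum_eq_single i₀ (fun η _ hη => by simp [Pi.single_eq_of_ne hη])
        (fun hn => absurd (Finset.mem_univ _) hn),
      Finset.sum_eq_single (f α) (fun η _ hη => by simp [Pi.single_eq_of_ne hη])
        (fun hn => absurd (Finset.mem_univ _) hn),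
      Pi.single_eq_same, Pi.single_eq_same] at h1
    have h2 := congrArg conj h1
    simp only [map_add, map_mul, map_intCast, Complex.conj_conj, map_zero, Int.cast_neg,
      Int.cast_one, map_neg, map_one] at h2
    show _ = 1 + (δ : ℂ) * η₀.1 g
    rw [hδ, Int.cast_neg, hη₀]
    simp only [hone, Char.trivialChar_apply, mul_one] at h2
    linear_combination h2
  have hex : ∀ η ∈ X, ∃ α : A, (f α).1 = η := fun η hη => by
    obtain ⟨α, -, hα⟩ := Finset.mem_image.1 hη
    exact ⟨α, hα⟩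
  let ε : Cfsg.IrrCharacter G → ℤ := fun η => if hη : η ∈ X then e (hex η hη).choose else 0
  have hε : ∀ η ∈ X, ε η * ε η = 1 ∧ ∀ g, ¬ p ∣ orderOf g →
      η.1 g = (ε η : ℂ) + (ε η : ℂ) * Φ g := by
    intro η hη
    have hsp := (hex η hη).choose_spec
    have he2 : ε η * ε η = 1 := by
      simp only [ε, dif_pos hη]
      rcases he (hex η hη).choose with h' | h' <;> rw [h'] <;> norm_num
    refine ⟨he2, fun g hg => ?_⟩
    have h1 := hrel (hex η hη).choose g hg
    rw [hsp] at h1
    have he3 : (ε η : ℂ) * ε η = 1 := by exact_mod_cast he2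
    have h2 : (ε η : ℂ) * η.1 g = 1 + Φ g := by simpa [ε, dif_pos hη] using h1
    linear_combination (ε η : ℂ) * h2 - η.1 g * he3
  have h0X : η₀ ∉ X := fun hh => (hXne _ hh).2.1 rfl
  have h1X : one ∉ X := fun hh => (hXne _ hh).1 rfl
  let a : Cfsg.IrrCharacter G → ℤ := fun η => if η = one then 1 else if η ∈ X then ε η else 0
  let b : Cfsg.IrrCharacter G → ℤ := fun η => if η = η₀ then δ else if η ∈ X then ε η else 0
  have ha1 : a one = 1 := if_pos rfl
  have hb1 : b one = 0 := (if_neg hη₀'.1.symm).trans (if_neg h1X)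
  have ha0 : a η₀ = 0 := (if_neg hη₀'.1).trans (if_neg h0X)
  have hb0 : b η₀ = δ := if_pos rfl
  have hsum : ∀ {R : Type} [CommRing R] (F : Cfsg.IrrCharacter G → ℤ → ℤ → R) (v : R),
      (∀ η ∈ X, F η (ε η) (ε η) = v) →
      ∑ η ∈ B, F η (a η) (b η) = F one 1 0 + F η₀ 0 δ + (X.card : R) * v := by
    intro R _ F v hv
    have h0 : η₀ ∉ X := fun hh => (hXne _ hh).2.1 rfl
    have h1 : one ∉ insert η₀ X := by
      simp only [Finset.mem_insert, not_or]
      exact ⟨fun e => hη₀'.1 e.symm, fun hh => (hXne _ hh).1 rfl⟩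
    rw [hBeq, Finset.sum_insert h1, Finset.sum_insert h0, ← add_assoc]
    congr 1
    · rw [ha1, hb1, ha0, hb0]
    · rw [Finset.sum_congr rfl (g := fun _ => v) fun η hη => ?_, Finset.sum_const, nsmul_eq_mul]
      simp only [a, b, if_neg (hXne η hη).1, if_neg (hXne η hη).2.1, if_pos hη]
      exact hv η hη
  refine ⟨{
    m := X.card, s := s, Φ := Φ, a := a, b := b
    s_ne_zero := hsabs.1, s_ne_one := hsabs.2.1, s_ne_neg_one := hsabs.2.2, dvd_s := hsdvd
    Φ_one := ?_, Φ_ne := ?_, apply_eq := ?_, sum_aa := ?_, sum_ab := ?_, sum_bb := ?_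
    sum_cube := ?_ }⟩
  · simp only [Φ, Char.apply_one_eq_degree, hs, hd, Int.cast_mul, Int.cast_natCast]
  · intro g hg hΦ
    refine hg (eq_one_of_apply_eq_degree hη₀'.1 (mul_left_cancel₀ (Int.cast_ne_zero.2 hδne) ?_))
    rw [Char.apply_one_eq_degree]
    simpa [Φ, hs, hd] using hΦ
  · intro η hη g hg
    have hη' : η ∈ B := Finset.mem_filter.2 ⟨Finset.mem_univ _, hη⟩
    rw [hBeq] at hη'
    simp only [Finset.mem_insert] at hη'
    rcases hη' with rfl | rfl | hX
    · rw [ha1, hb1, hone, Char.trivialChar_apply]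
      simp
    · rw [ha0, hb0]
      have hd' : (δ : ℂ) * δ = 1 := by exact_mod_cast hδ2
      show η₀.1 g = ((0 : ℤ) : ℂ) + δ * ((δ : ℂ) * η₀.1 g)
      rw [Int.cast_zero, zero_add, ← mul_assoc, hd', one_mul]
    · rw [show a η = ε η by simp [a, (hXne η hX).1, hX],
        show b η = ε η by simp [b, (hXne η hX).2.1, hX]]
      exact (hε η hX).2 g hg
  · rw [hsum (fun _ x _ => x ^ 2) 1 fun η hη => (by rw [sq]; exact (hε η hη).1)]
    ring
  · rw [hsum (fun _ x y => x * y) 1 fun η hη => (hε η hη).1]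
    ring
  · rw [hsum (fun _ _ y => y ^ 2) 1 fun η hη => (by rw [sq]; exact (hε η hη).1)]
    linear_combination hδ2
  · rw [hsum (fun _ x y => (y : ℂ) ^ 3 / ((x + y * s : ℤ) : ℂ)) (1 / (1 + (s : ℂ))) ?_]
    · have hδC : (δ : ℂ) ≠ 0 := Int.cast_ne_zero.2 hδne
      have hd' : (δ : ℂ) * δ = 1 := by exact_mod_cast hδ2
      push_cast
      rw [zero_add, pow_succ (δ : ℂ) 2, sq, hd', one_mul, ← div_div, div_self hδC]
      ring
    · intro η hη
      have h1 : (ε η : ℂ) * ε η = 1 := by exact_mod_cast (hε η hη).1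
      have h2 : (ε η : ℂ) ≠ 0 := fun e => by simp [e] at h1
      push_cast
      rw [show (ε η : ℂ) + ε η * s = ε η * (1 + s) by ring, pow_succ, sq, h1, one_mul, ← div_div,
        div_self h2]

end Cfsg.Agent.SmithTyrer
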