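import Cfsg.Agent.Lib.Transfer.Burnside
import Cfsg.Agent.Lib.PCore.Basic

/-!
# Abelian Sylow subgroups inverted in their normaliser

`IsInvConfig P`: the Sylow `p`-subgroup `P` is abelian and not cyclic, every element of `N_G(P)`
centralises or inverts `P`, and some element inverts it.
-/

set_option autoImplicit false
set_option linter.style.haveILetI false
set_option linter.unusedSectionVars false

namespace Cfsg.Agent.SmithTyrer

universe u

variable {G : Type u} [Group G] [Finite G] {p : ℕ}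

/-- The configuration of a Sylow subgroup inverted in its normaliser. -/
structure IsInvConfig (P : Sylow p G) : Prop where
  comm : IsMulCommutative (P : Subgroup G)
  noncyclic : ¬ IsCyclic (P : Subgroup G)
  sign : ∀ g ∈ Subgroup.normalizer ((P : Subgroup G) : Set G),
    (∀ x ∈ (P : Subgroup G), g * x * g⁻¹ = x) ∨ (∀ x ∈ (P : Subgroup G), g * x * g⁻¹ = x⁻¹)
  inverter : ∃ g : G, ∀ x ∈ (P : Subgroup G), g * x * g⁻¹ = x⁻¹

theorem mul_comm_of_mem {P : Sylow p G} (hc : IsMulCommutative (P : Subgroup G)) {a b : G}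
    (ha : a ∈ (P : Subgroup G)) (hb : b ∈ (P : Subgroup G)) : a * b = b * a :=
  congrArg Subtype.val (hc.is_comm.comm (⟨a, ha⟩ : (P : Subgroup G)) ⟨b, hb⟩)

theorem conj_mul_conj (g x y : G) : g * (x * y) * g⁻¹ = g * x * g⁻¹ * (g * y * g⁻¹) := by group

theorem eq_one_of_eq_inv_of_mem [hp : Fact p.Prime] (hodd : p ≠ 2) {P : Sylow p G} {x : G}
    (hx : x ∈ (P : Subgroup G)) (h : x = x⁻¹) : x = 1 := by
  obtain ⟨k, hk⟩ := (IsPGroup.iff_orderOf.1 P.isPGroup') ⟨x, hx⟩
  rw [Subgroup.orderOf_mk] at hk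
  have h2 : orderOf x ∣ 2 := orderOf_dvd_of_pow_eq_one (by
    rw [pow_two]; exact eq_inv_iff_mul_eq_one.1 h)
  have hco : Nat.Coprime (p ^ k) 2 :=
    Nat.Coprime.pow_left _ ((Nat.coprime_primes hp.out Nat.prime_two).2 hodd)
  exact orderOf_eq_one_iff.1 (Nat.eq_one_of_dvd_coprimes hco (hk ▸ dvd_rfl) h2)

namespace IsInvConfig

variable [hp : Fact p.Prime] {P : Sylow p G} (h : IsInvConfig P)
include h

/-- Two conjugate elements of `P` are equal or mutually inverse. -/
theorem conj_eq {x g : G} (hx : x ∈ (P : Subgroup G)) (hgx : g * x * g⁻¹ ∈ (P : Subgroup G)) :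
    g * x * g⁻¹ = x ∨ g * x * g⁻¹ = x⁻¹ := by
  obtain ⟨n, hn, he⟩ :=
    Transfer.controlsElementFusion_normalizer_of_isMulCommutative P h.comm x hx g hgx
  rw [← he]
  exact (h.sign n hn).imp (fun e => e x hx) (fun e => e x hx)

theorem isConj_iff_eq {x y : G} (hx : x ∈ (P : Subgroup G)) (hy : y ∈ (P : Subgroup G)) :
    IsConj x y ↔ y = x ∨ y = x⁻¹ := by
  constructor
  · intro hxy
    obtain ⟨g, rfl⟩ := isConj_iff.1 hxy
    exact h.conj_eq hx hy
  · rintro (rfl | rfl)
    · exact IsConj.refl _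
    · obtain ⟨g, hg⟩ := h.inverter
      exact isConj_iff.2 ⟨g, hg x hx⟩

/-- An element moving a subgroup of `P` into `P` centralises it or inverts it. -/
theorem uniform_sign {Q : Subgroup G} (hQ : Q ≤ (P : Subgroup G)) {g : G}
    (hg : ∀ x ∈ Q, g * x * g⁻¹ ∈ (P : Subgroup G)) :
    (∀ x ∈ Q, g * x * g⁻¹ = x) ∨ (∀ x ∈ Q, g * x * g⁻¹ = x⁻¹) := by
  by_contra hcon
  push Not at hcon
  obtain ⟨⟨x, hx, hx'⟩, ⟨y, hy, hy'⟩⟩ := hcon
  have hxi : g * x * g⁻¹ = x⁻¹ := (h.conj_eq (hQ hx) (hg x hx)).resolve_left hx'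
  have hyf : g * y * g⁻¹ = y := (h.conj_eq (hQ hy) (hg y hy)).resolve_right hy'
  have hxy := h.conj_eq (hQ (Q.mul_mem hx hy)) (hg _ (Q.mul_mem hx hy))
  rw [conj_mul_conj, hxi, hyf] at hxy
  rcases hxy with e | e
  · exact hx' (hxi.trans (mul_right_cancel e))
  · rw [mul_comm_of_mem h.comm (hQ hx) (hQ hy), mul_inv_rev] at e
    exact hy' (hyf.trans (mul_left_cancel e))

theorem mem_normalizer_of_inverts {g : G}
    (hg : ∀ x ∈ (P : Subgroup G), g * x * g⁻¹ = x⁻¹) :
    g ∈ Subgroup.normalizer ((P : Subgroup G) : Set G) :=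
  Transfer.mem_normalizer_of_conj_mem fun x hx => by rw [hg x hx]; exact inv_mem hx

theorem exists_ne_one : ∃ x ∈ (P : Subgroup G), x ≠ 1 := by
  by_contra hcon
  push Not at hcon
  haveI : Subsingleton (P : Subgroup G) :=
    ⟨fun a b => Subtype.ext ((hcon a a.2).trans (hcon b b.2).symm)⟩
  exact h.noncyclic inferInstance

variable (hodd : p ≠ 2)
include hodd

/-- A subgroup containing `P` that centralises a non-identity element of it has a normal
`p`-complement. -/
theorem index_pPrimeCore_of_centralizes {D : Subgroup G} (hPD : (P : Subgroup G) ≤ D) {x : G}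
    (hx : x ∈ (P : Subgroup G)) (hx1 : x ≠ 1) (hDx : ∀ d ∈ D, d * x * d⁻¹ = x) :
    (Cfsg.pPrimeCore p D).index = Nat.card (P : Subgroup G) ∧
      (Cfsg.pPrimeCore p D).IsComplement' ((P.subtype hPD : Sylow p D) : Subgroup D) := by
  set PD : Sylow p D := P.subtype hPD with hPDdef
  have hmem : ∀ d : D, d ∈ (PD : Subgroup D) ↔ (d : G) ∈ (P : Subgroup G) := fun d => by
    rw [hPDdef, Sylow.coe_subtype]; rfl
  have hN : Subgroup.normalizer ((PD : Subgroup D) : Set D) ≤
      Subgroup.centralizer ((PD : Subgroup D) : Set D) := by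
    intro n hn
    have hnP : ∀ y ∈ (P : Subgroup G), (n : G) * y * (n : G)⁻¹ ∈ (P : Subgroup G) := by
      intro y hy
      have h1 := (Subgroup.mem_normalizer_iff.1 hn ⟨y, hPD hy⟩).1 ((hmem _).2 hy)
      exact (hmem _).1 h1
    rcases h.sign n (Transfer.mem_normalizer_of_conj_mem hnP) with hs | hs
    · rw [Subgroup.mem_centralizer_iff]
      intro y hy
      apply Subtype.ext
      have h1 := hs (y : G) ((hmem y).1 hy)
      exact (mul_inv_eq_iff_eq_mul.1 h1).symm
    · exact absurd (eq_one_of_eq_inv_of_mem hodd hx ((hDx n n.2).symm.trans (hs x hx))) hx1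
  obtain ⟨S, K, hK, hKc⟩ := Transfer.hasNormalPComplement_of_normalizer_le_centralizer PD hN
  haveI := hK
  have hcardS : Nat.card (S : Subgroup D) = Nat.card (P : Subgroup G) := by
    rw [S.card_eq_multiplicity, ← PD.card_eq_multiplicity, hPDdef, Sylow.coe_subtype,
      Nat.card_congr (Subgroup.subgroupOfEquivOfLe hPD).toEquiv]
  obtain ⟨a, ha⟩ := IsPGroup.iff_card.1 P.isPGroup'
  have hKp : (Nat.card K).Coprime p := by
    refine ((Nat.Prime.coprime_iff_not_dvd hp.out).2 fun hd => ?_).symm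
    exact S.not_dvd_index (hKc.index_eq_card ▸ hd)
  have hle : K ≤ Cfsg.pPrimeCore p D := PCore.le_pPrimeCore hKp
  have hKS : K.index = Nat.card (S : Subgroup D) := hKc.symm.index_eq_card
  have heq : K = Cfsg.pPrimeCore p D := by
    refine Subgroup.eq_of_le_of_card_ge hle ?_
    have h1 : Nat.card (Cfsg.pPrimeCore p D) ∣ Nat.card D := Subgroup.card_subgroup_dvd_card _
    rw [← K.card_mul_index, hKS, hcardS, ha] at h1
    exact Nat.le_of_dvd Nat.card_pos
      ((Nat.Coprime.pow_right a (PCore.coprime_card_pPrimeCore (p := p) (G := D))).dvd_of_dvd_mul_right h1)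
  subst heq
  refine ⟨hKS.trans hcardS, ?_⟩
  refine Subgroup.isComplement'_of_coprime ?_ ?_
  · rw [← (Cfsg.pPrimeCore p D).card_mul_index, hKS, S.card_eq_multiplicity,
      ← PD.card_eq_multiplicity]
  · rw [PD.card_eq_multiplicity]
    exact Nat.Coprime.pow_right _ hKp

end IsInvConfig

end Cfsg.Agent.SmithTyrer
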