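import Cfsg.Agent.Lib.SmithTyrer.BlockData
import Cfsg.Agent.Lib.Char.Brauer
import Cfsg.Agent.Lib.Char.Generalized
import Cfsg.Agent.Lib.Char.Descend
import Cfsg.Agent.Lib.CharInt.Central
import Mathlib.RingTheory.RootsOfUnity.Complex
import Mathlib.GroupTheory.Nilpotent

/-!
# The covering group and the final contradiction

A central extension by a group of order `p`, with the central element a commutator, transports the
values of the principal block to faithful characters with impossible arithmetic.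
-/

set_option autoImplicit false
set_option linter.style.haveILetI false
set_option linter.unusedSectionVars false

open scoped Classical ComplexConjugate commutatorElement

namespace Cfsg.Agent.SmithTyrer

universe u

/-- Data for the power map onto the `p`-regular part. -/
theorem exists_power (p N : ℕ) [hp : Fact p.Prime] (hN : N ≠ 0) :
    ∃ k : ℕ, (∀ i, p ^ i ∣ N → p ^ i ∣ k) ∧ ∀ n, ¬ p ∣ n → n ∣ N → ∀ i, k * i ≡ i [MOD n] := by
  set A := p ^ N.factorization p with hA
  set n' := N / A with hn'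
  have hco : A.Coprime n' := by
    rw [hA, hn']
    exact Nat.Coprime.pow_left _ (Nat.coprime_ordCompl hp.out hN)
  obtain ⟨k, hk0, hk1⟩ := Nat.chineseRemainder hco 0 1
  refine ⟨k, fun i hi => ?_, fun n hn hnN i => ?_⟩
  · exact dvd_trans (pow_dvd_pow p ((hp.out.pow_dvd_iff_le_factorization hN).1 hi))
      (Nat.modEq_zero_iff_dvd.1 hk0)
  · have h1 : n ∣ n' := by
      have h2 : n ∣ A * n' := by rwa [hA, hn', Nat.ordProj_mul_ordCompl_eq_self]
      exact (Nat.Coprime.pow_right _ (Nat.Coprime.symm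
        ((Nat.Prime.coprime_iff_not_dvd hp.out).2 hn))).dvd_of_dvd_mul_left h2
    have h3 := (hk1.of_dvd h1).mul_right i
    rwa [one_mul] at h3

/-- In a finite nilpotent group an exponent that kills `p`-elements and fixes `p`-regular ones
gives a homomorphism. -/
theorem pow_mul_of_nilpotent {H : Type u} [Group H] [Finite H] [Group.IsNilpotent H] {p : ℕ}
    [hp : Fact p.Prime] {k : ℕ} (hkp : ∀ i, p ^ i ∣ Nat.card H → p ^ i ∣ k)
    (hkr : ∀ n, ¬ p ∣ n → n ∣ Nat.card H → ∀ i, k * i ≡ i [MOD n]) (x y : H) :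
    (x * y) ^ k = x ^ k * y ^ k := by
  obtain ⟨e⟩ := ((Group.isNilpotent_of_finite_tfae (G := H)).out 0 4 rfl rfl).1 ‹_›
  apply e.symm.injective
  simp only [map_pow, map_mul]
  funext q Q
  simp only [Pi.pow_apply, Pi.mul_apply]
  set a := (e.symm x) q Q
  set b := (e.symm y) q Q
  haveI : Fact (q : ℕ).Prime := ⟨Nat.prime_of_mem_primeFactors q.2⟩
  obtain ⟨i, hi⟩ := IsPGroup.iff_card.1 Q.isPGroup'
  have hdiv : ∀ c : (Q : Subgroup H), orderOf c ∣ (q : ℕ) ^ i := fun c => hi ▸ orderOf_dvd_natCard c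
  have hQ : (q : ℕ) ^ i ∣ Nat.card H := hi ▸ Subgroup.card_subgroup_dvd_card _
  by_cases hq : (q : ℕ) = p
  · have hz : ∀ c : (Q : Subgroup H), c ^ k = 1 := fun c =>
      orderOf_dvd_iff_pow_eq_one.1 ((hdiv c).trans (hq ▸ hkp i (hq ▸ hQ)))
    rw [hz, hz, hz, one_mul]
  · have hz : ∀ c : (Q : Subgroup H), c ^ k = c := fun c => by
      have hn : ¬ p ∣ (q : ℕ) ^ i := fun hd =>
        hq ((Nat.prime_dvd_prime_iff_eq hp.out Fact.out).1 (hp.out.dvd_of_dvd_pow hd)).symm
      have h1 := (hkr _ hn hQ 1).of_dvd (hdiv c)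
      rw [mul_one] at h1
      conv_rhs => rw [← pow_one c]
      exact pow_eq_pow_iff_modEq.2 h1
    rw [hz, hz, hz]

section Proj

variable {H : Type u} [Group H] [Fintype H] {p : ℕ} [hp : Fact p.Prime] {M : Ideal Cfsg.AlgInt}

/-- A linear relation on the regular elements splits along the principal block. -/
theorem sum_block_eq_zero (hM : Cfsg.IsPModular p M) {ι : Type*} [Fintype ι]
    (θ : ι → Cfsg.IrrCharacter H) (c : ι → ℂ)
    (h0 : ∀ e : H, ¬ p ∣ orderOf e → ∑ i, c i * (θ i).1 e = 0) {e : H} (he : ¬ p ∣ orderOf e) :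
    ∑ i ∈ Finset.univ.filter (fun i => θ i ∈ Cfsg.principalBlock M H), c i * (θ i).1 e = 0 := by
  haveI := hM.2.1
  set S := Finset.univ.filter (fun i => θ i ∈ Cfsg.principalBlock M H) with hS
  set f : H → ℂ := fun x => ∑ i ∈ S, c i * (θ i).1 x with hf
  set g : H → ℂ := fun x => ∑ i ∈ Sᶜ, c i * (θ i).1 x with hg
  set R := Finset.univ.filter (Cfsg.IsPRegular p : H → Prop) with hR
  have hfg : ∀ x ∈ R, f x = -g x := fun x hx => eq_neg_of_add_eq_zero_left (by
    rw [hf, hg, Finset.sum_add_sum_compl]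
    exact h0 x (Finset.mem_filter.1 hx).2)
  have hz : ∑ x ∈ R, f x * conj (g x) = 0 := by
    simp only [hf, hg, map_sum, map_mul, Finset.sum_mul_sum]
    rw [Finset.sum_comm]
    refine Finset.sum_eq_zero fun i hi => ?_
    rw [Finset.sum_comm]
    refine Finset.sum_eq_zero fun j hj => ?_
    have hne : ¬ Cfsg.SameBlock M (θ i).1 (θ j).1 := fun hsb => by
      have hi' : θ i ∈ Cfsg.principalBlock M H := (Finset.mem_filter.1 hi).2
      have hj' : θ j ∈ Cfsg.principalBlock M H := by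
        rw [Cfsg.principalBlock, Blocks.blockOf_eq (Blocks.mem_blockOf.1 hi')]
        exact hsb
      exact Finset.mem_compl.1 hj (Finset.mem_filter.2 ⟨Finset.mem_univ _, hj'⟩)
    rw [Finset.sum_congr rfl fun x _ => show c i * (θ i).1 x * (conj (c j) * conj ((θ j).1 x)) =
      (c i * conj (c j)) * ((θ i).1 x * conj ((θ j).1 x)) by ring, ← Finset.mul_sum, hR,
      Blocks.regular_orthogonality hM.2.2 hne, mul_zero]
  have hn : ∑ x ∈ R, (Complex.normSq (f x) : ℂ) = 0 := by
    rw [Finset.sum_congr rfl (g := fun x => -(f x * conj (g x))) fun x hx => by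
      rw [Complex.normSq_eq_conj_mul_self, mul_comm,
        show conj (f x) = -conj (g x) by rw [hfg x hx, map_neg], mul_neg],
      Finset.sum_neg_distrib, hz, neg_zero]
  rw [← Complex.ofReal_sum, Complex.ofReal_eq_zero,
    Finset.sum_eq_zero_iff_of_nonneg fun x _ => Complex.normSq_nonneg _] at hn
  exact Complex.normSq_eq_zero.1 (hn e (Finset.mem_filter.2 ⟨Finset.mem_univ _, he⟩))

end Proj

variable {G E : Type u} [Group G] [Fintype G] [Group E] [Fintype E] {p : ℕ} [hp : Fact p.Prime]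

/-- A central extension by a central commutator of order `p`. -/
structure IsCommExt (p : ℕ) (π : E →* G) (z : E) : Prop where
  surj : Function.Surjective π
  central : z ∈ Subgroup.center E
  order : orderOf z = p
  ker : π.ker = Subgroup.zpowers z
  comm : z ∈ commutator E

/-- The scalar of `z` on a character. -/
noncomputable def centralScalar (z : E) (η : Cfsg.IrrCharacter E) : ℂ := η.1 z / η.1 1

theorem centralScalar_spec {π : E →* G} {z : E} (hx : IsCommExt p π z)
    (η : Cfsg.IrrCharacter E) :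
    centralScalar z η ^ p = 1 ∧ (∀ (j : ℕ) (x : E), η.1 (z ^ j * x) = centralScalar z η ^ j * η.1 x) ∧
      (centralScalar z η ≠ 1 → p ∣ Char.degree η) := by
  obtain ⟨n, ρ, hρ, hη⟩ := η.2
  haveI := hρ
  haveI := Char.nontrivial_of_isIrreducible ρ
  obtain ⟨c, hc⟩ := CharInt.exists_smul_one_of_mem_center ρ hx.central
  have hpow : ∀ (j : ℕ) (x : E), η.1 (z ^ j * x) = c ^ j * η.1 x := by
    intro j x
    rw [← hη]
    show LinearMap.trace ℂ _ (ρ (z ^ j * x)) = c ^ j * LinearMap.trace ℂ _ (ρ x)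
    rw [map_mul, map_pow, hc, smul_pow, one_pow, smul_mul_assoc, one_mul, map_smul, smul_eq_mul]
  have hcz : centralScalar z η = c := by
    have h1 := hpow 1 1
    rw [pow_one, mul_one, pow_one] at h1
    rw [centralScalar, h1, mul_div_assoc, div_self (Char.IsIrrCharacter.apply_one_ne_zero η.2),
      mul_one]
  have hcp : c ^ p = 1 := by
    have h1 := hpow p 1
    rw [show z ^ p = 1 by rw [← hx.order, pow_orderOf_eq_one], one_mul] at h1
    exact (mul_eq_right₀ (Char.IsIrrCharacter.apply_one_ne_zero η.2)).1 h1.symm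
  refine ⟨hcz ▸ hcp, fun j x => hcz ▸ hpow j x, fun hne => ?_⟩
  rw [hcz] at hne
  have hdeg : Char.degree η = n := by
    have h1 : η.1 1 = (n : ℂ) := by rw [← hη, Representation.char_one, Module.finrank_fin_fun]
    rw [Char.apply_one_eq_degree] at h1
    exact_mod_cast h1
  let φ : E →* ℂˣ := ((LinearMap.det : Module.End ℂ (Fin n → ℂ) →* ℂ).comp ρ).toHomUnits
  have h1 : φ z = 1 := Abelianization.commutator_subset_ker φ hx.comm
  have h2 : c ^ n = 1 := by
    have h3 : LinearMap.det (ρ z) = 1 := congrArg Units.val h1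
    rwa [hc, LinearMap.det_smul, map_one, mul_one, Module.finrank_fin_fun] at h3
  rw [hdeg]
  have h4 : orderOf c = p := orderOf_eq_prime hcp hne
  exact h4 ▸ orderOf_dvd_of_pow_eq_one h2

set_option maxHeartbeats 2000000 in
/-- No simple group with the principal block data has such an extension. -/
theorem false_of_commExt {M : Ideal Cfsg.AlgInt} (hM : Cfsg.IsPModular p M) (hodd : p ≠ 2)
    (d : BlockData p M G) {π : E →* G} {z : E} (hx : IsCommExt p π z) {t : G}
    (ht : orderOf t = 2) : False := by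
  haveI := hM.2.1
  have hzc : ∀ x : E, z * x = x * z := fun x => (Subgroup.mem_center_iff.1 hx.central x).symm
  obtain ⟨k, hkp, hkr⟩ := exists_power p (Nat.card E) Nat.card_pos.ne'
  have hzk : z ^ k = 1 := orderOf_dvd_iff_pow_eq_one.1 (hx.order ▸ by
    simpa using hkp 1 (by rw [pow_one, ← hx.order]; exact orderOf_dvd_natCard z))
  have hcardG : Nat.card G ∣ Nat.card E := Subgroup.card_dvd_of_surjective π hx.surj
  have hkE : ∀ e : E, ¬ p ∣ orderOf e → e ^ k = e := fun e he => by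
    conv_rhs => rw [← pow_one e]
    exact pow_eq_pow_iff_modEq.2 (by simpa using hkr _ he (orderOf_dvd_natCard e) 1)
  have hkG : ∀ g : G, ¬ p ∣ orderOf g → g ^ k = g := fun g hg => by
    conv_rhs => rw [← pow_one g]
    exact pow_eq_pow_iff_modEq.2
      (by simpa using hkr _ hg ((orderOf_dvd_natCard g).trans hcardG) 1)
  have hreg : ∀ e : E, ¬ p ∣ orderOf (e ^ k) := by
    intro e hd
    set n' := Nat.card E / p ^ (Nat.card E).factorization p with hn'
    have h2 : (e ^ k) ^ n' = 1 := by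
      rw [← pow_mul, ← orderOf_dvd_iff_pow_eq_one]
      refine (orderOf_dvd_natCard e).trans ?_
      rw [← Nat.ordProj_mul_ordCompl_eq_self (Nat.card E) p, ← hn']
      exact Nat.mul_dvd_mul_right (hkp _ (Nat.ordProj_dvd _ _)) _
    exact Nat.not_dvd_ordCompl hp.out Nat.card_pos.ne' (hd.trans (orderOf_dvd_of_pow_eq_one h2))
  -- the section
  let sec : G → E := Function.surjInv hx.surj
  have hsec : ∀ g, π (sec g) = g := Function.surjInv_eq hx.surj
  have hwd : ∀ x y : E, π x = π y → x ^ k = y ^ k := by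
    intro x y hxy
    have hmem : x⁻¹ * y ∈ π.ker := by
      rw [MonoidHom.mem_ker, map_mul, map_inv, hxy, inv_mul_cancel]
    rw [hx.ker, ← mem_powers_iff_mem_zpowers] at hmem
    obtain ⟨i, hi⟩ := hmem
    have hi' : x⁻¹ * y = z ^ i := hi.symm
    rw [← mul_inv_cancel_left x y, hi', (Commute.pow_right (hzc x).symm i).mul_pow, ← pow_mul,
      mul_comm i k, pow_mul, hzk, one_pow, mul_one]
  have hmapreg : ∀ e : E, ¬ p ∣ orderOf e → ¬ p ∣ orderOf (π e) := fun e he hd =>
    he (hd.trans (orderOf_map_dvd π e))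
  have hlift : ∀ g : G, ¬ p ∣ orderOf g → π (sec g ^ k) = g := fun g hg => by
    rw [map_pow, hsec, hkG g hg]
  have hinj : ∀ x y : E, ¬ p ∣ orderOf x → ¬ p ∣ orderOf y → π x = π y → x = y := fun x y h1 h2 h =>
    (hkE x h1).symm.trans ((hwd x y h).trans (hkE y h2))
  -- inflation
  let infl : Cfsg.IrrCharacter G → Cfsg.IrrCharacter E := fun ξ =>
    ⟨fun e => ξ.1 (π e), Char.IsIrrCharacter.comp_surjective ξ.2 π hx.surj⟩
  have hinflB : ∀ ξ, infl ξ ∈ Cfsg.principalBlock M E ↔ ξ ∈ Cfsg.principalBlock M G := by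
    intro ξ
    rw [BlockCount.mem_principalBlock_iff hM, BlockCount.mem_principalBlock_iff hM]
    have h1 : BlockCount.pregSum p (infl ξ).1 = BlockCount.pregSum p ξ.1 := by
      refine Finset.sum_bij (fun e _ => π e) (fun e he => ?_) (fun x h1 y h2 hxy => ?_)
        (fun g hg => ?_) (fun e _ => rfl)
      · simp only [Finset.mem_filter, Finset.mem_univ, true_and] at he ⊢
        exact hmapreg e he
      · simp only [Finset.mem_filter, Finset.mem_univ, true_and] at h1 h2
        exact hinj x y h1 h2 hxy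
      · simp only [Finset.mem_filter, Finset.mem_univ, true_and] at hg
        exact ⟨sec g ^ k, by simpa using hreg _, hlift g hg⟩
    rw [h1]
  have hinfl_inj : Function.Injective infl := fun ξ ξ' he => Subtype.ext (funext fun g => by
    obtain ⟨e, rfl⟩ := hx.surj g
    exact congrFun (congrArg Subtype.val he) e)
  set ω : Cfsg.IrrCharacter E → ℂ := centralScalar z with hω
  have hωp : ∀ η, ω η ^ p = 1 := fun η => (centralScalar_spec hx η).1
  have hωm : ∀ η (j : ℕ) (x : E), η.1 (z ^ j * x) = ω η ^ j * η.1 x := fun η =>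
    (centralScalar_spec hx η).2.1
  have hrange : ∀ η, ω η = 1 ↔ ∃ ξ, infl ξ = η := by
    intro η
    constructor
    · intro h1
      have hone : ∀ a ∈ π.ker, η.1 a = η.1 1 := by
        intro a ha
        rw [hx.ker, ← mem_powers_iff_mem_zpowers] at ha
        obtain ⟨i, rfl⟩ := ha
        have h2 := hωm η i 1
        rwa [mul_one, h1, one_pow, one_mul] at h2
      obtain ⟨ψ, hψ⟩ := Char.exists_descend π.ker η hone
      let e := QuotientGroup.quotientKerEquivOfSurjective π hx.surj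
      refine ⟨⟨fun g => ψ.1 (e.symm g),
        Char.IsIrrCharacter.comp_surjective ψ.2 e.symm.toMonoidHom e.symm.surjective⟩,
        Subtype.ext (funext fun x => ?_)⟩
      show ψ.1 (e.symm (π x)) = η.1 x
      rw [← hψ x]
      exact congrArg ψ.1 (e.symm_apply_apply (x : E ⧸ π.ker))
    · rintro ⟨ξ, rfl⟩
      show ξ.1 (π z) / ξ.1 (π 1) = 1
      rw [map_one, show π z = 1 from (hx.ker.ge (Subgroup.mem_zpowers z) : z ∈ π.ker),
        div_self (Char.IsIrrCharacter.apply_one_ne_zero ξ.2)]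
  set B := Finset.univ.filter (· ∈ Cfsg.principalBlock M E) with hB
  have hBinfl : ∀ F : Cfsg.IrrCharacter E → ℂ,
      ∑ η ∈ B.filter (fun η => ω η = 1), F η =
        ∑ ξ ∈ Finset.univ.filter (· ∈ Cfsg.principalBlock M G), F (infl ξ) := by
    intro F
    rw [← Finset.sum_image (f := F) (g := infl) fun a _ b _ hab => hinfl_inj hab]
    refine Finset.sum_congr (Finset.ext fun η => ?_) fun _ _ => rfl
    simp only [hB, Finset.mem_filter, Finset.mem_univ, true_and, Finset.mem_image]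
    constructor
    · rintro ⟨h1, h2⟩
      obtain ⟨ξ, rfl⟩ := (hrange η).1 h2
      exact ⟨ξ, (hinflB ξ).1 h1, rfl⟩
    · rintro ⟨ξ, hξ, rfl⟩
      exact ⟨(hinflB ξ).2 hξ, (hrange _).2 ⟨ξ, rfl⟩⟩
  -- integrality
  have hint : ∀ η : Cfsg.IrrCharacter E, η ∈ Cfsg.principalBlock M E →
      ∃ a b : ℤ, ∀ e : E, ¬ p ∣ orderOf e → η.1 e = a + b * d.Φ (π e) := by
    intro η hη
    set ψ : G → ℂ := fun g => η.1 (sec g ^ k) with hψ
    have hψc : Cfsg.IsClassFunction G ψ := fun g c => by
      show η.1 (sec (c * g * c⁻¹) ^ k) = η.1 (sec g ^ k)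
      rw [hwd (sec (c * g * c⁻¹)) (sec c * sec g * (sec c)⁻¹)
        (by rw [map_mul, map_mul, map_inv, hsec, hsec, hsec]), conj_pow,
        CharInt.char_conj_apply (Char.irr_isCharacter η)]
    have hgen : Cfsg.IsGeneralizedCharacter G ψ := by
      refine Char.isGeneralizedCharacter_of_elementary hψc fun S r hr hS => ?_
      haveI := Char.IsElementary.isNilpotent hr hS
      set T := S.comap π
      let f : T →* S := (π.comp T.subtype).codRestrict S fun x => x.2
      haveI : Group.IsNilpotent T := by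
        refine isNilpotent_of_ker_le_center f fun x hxk => ?_
        have h1 : π (x : E) = 1 := congrArg Subtype.val (hxk : f x = 1)
        have h2 : (x : E) ∈ Subgroup.zpowers z := hx.ker ▸ h1
        rw [Subgroup.mem_center_iff]
        intro y
        apply Subtype.ext
        exact Subgroup.mem_center_iff.1 ((Subgroup.zpowers_le.2 hx.central) h2) (y : E)
      have hkT : ∀ x y : T, (x * y) ^ k = x ^ k * y ^ k := pow_mul_of_nilpotent
        (fun i hi => hkp i (hi.trans (Subgroup.card_subgroup_dvd_card T)))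
        (fun n hn hnT => hkr n hn (hnT.trans (Subgroup.card_subgroup_dvd_card T)))
      have hT : ∀ s : S, sec (s : G) ∈ T := fun s => by
        rw [Subgroup.mem_comap, hsec]; exact s.2
      let φ : S →* E := MonoidHom.mk' (fun s => sec (s : G) ^ k) fun a b => by
        have h1 := congrArg Subtype.val (hkT ⟨_, hT a⟩ ⟨_, hT b⟩)
        simp only [SubmonoidClass.coe_pow, Subgroup.coe_mul] at h1
        rw [← h1]
        exact hwd _ _ (by rw [map_mul, hsec, hsec, hsec, Subgroup.coe_mul])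
      exact Char.IsCharacter.isGeneralized
        (Char.IsCharacter.comp (Char.irr_isCharacter η) φ)
    obtain ⟨m, hm, -⟩ := Char.IsGeneralizedCharacter.exists_decomp hgen
    let θ : Option (Cfsg.IrrCharacter G) → Cfsg.IrrCharacter E := fun o => o.elim η infl
    let c : Option (Cfsg.IrrCharacter G) → ℂ := fun o => o.elim 1 fun ξ => -(m ξ : ℂ)
    have h0 : ∀ e : E, ¬ p ∣ orderOf e → ∑ o, c o * (θ o).1 e = 0 := by
      intro e he
      rw [Fintype.sum_option]
      have h1 := congrFun hm (π e)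
      simp only [hψ, Finset.sum_apply, Pi.smul_apply, smul_eq_mul] at h1
      rw [hwd (sec (π e)) e (hsec _), hkE e he] at h1
      simp only [θ, c, Option.elim_none, Option.elim_some, one_mul, neg_mul,
        Finset.sum_neg_distrib, infl, h1, add_neg_cancel]
    refine ⟨∑ ξ ∈ Finset.univ.filter (· ∈ Cfsg.principalBlock M G), m ξ * d.a ξ,
      ∑ ξ ∈ Finset.univ.filter (· ∈ Cfsg.principalBlock M G), m ξ * d.b ξ, fun e he => ?_⟩
    have h2 := sum_block_eq_zero hM θ c h0 he
    rw [Finset.sum_filter, Fintype.sum_option] at h2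
    simp only [θ, c, Option.elim_none, Option.elim_some, if_pos hη, hinflB, one_mul] at h2
    rw [← Finset.sum_filter, add_eq_zero_iff_eq_neg] at h2
    rw [h2, ← Finset.sum_neg_distrib]
    push_cast
    rw [Finset.sum_mul, ← Finset.sum_add_distrib]
    refine Finset.sum_congr rfl fun ξ hξ => ?_
    show -(-(m ξ : ℂ) * ξ.1 (π e)) = _
    rw [d.apply_eq ξ (Finset.mem_filter.1 hξ).2 (π e) (hmapreg e he)]
    ring
  -- the involution
  have htreg : ¬ p ∣ orderOf t := by
    rw [ht]
    exact fun hd => hodd ((Nat.prime_dvd_prime_iff_eq hp.out Nat.prime_two).1 hd)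
  set T := sec t ^ k with hT
  have hTreg : ¬ p ∣ orderOf T := hreg _
  have hπT : π T = t := hlift t htreg
  have hTT : T * T = 1 := by
    have h1 : ¬ p ∣ orderOf (T * T) := fun hd => hTreg (by
      rw [← pow_two] at hd
      exact hd.trans (orderOf_pow_dvd 2))
    refine hinj _ _ h1 (by simp [hp.out.ne_one]) ?_
    rw [map_mul, hπT, map_one, ← pow_two, ← ht, pow_orderOf_eq_one]
  have hTinv : T⁻¹ = T := inv_eq_of_mul_eq_one_right hTT
  have hconjT : ∀ η : Cfsg.IrrCharacter E, conj (η.1 T) = η.1 T := fun η => by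
    rw [← CharInt.char_inv (Char.irr_isCharacter η), hTinv]
  have hconj1 : ∀ η : Cfsg.IrrCharacter E, conj (η.1 1) = η.1 1 := fun η => by
    rw [Char.apply_one_eq_degree, map_natCast]
  have hzj : ∀ j, 0 < j → j < p → z ^ j ≠ 1 := fun j h1 h2 he => by
    have h3 := Nat.le_of_dvd h1 (hx.order ▸ orderOf_dvd_of_pow_eq_one he)
    omega
  have hone : ¬ p ∣ orderOf (1 : E) := by simp [hp.out.ne_one]
  have orth : ∀ (h h' : E), ¬ p ∣ orderOf h → ¬ p ∣ orderOf h' → ∀ j, 0 < j → j < p →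
      ∑ η ∈ B, η.1 h * conj (η.1 h') * ω η ^ j = 0 := by
    intro h h' hh hh' j hj hjp
    have hg : Cfsg.IsPPart p (z ^ j * h) (z ^ j) :=
      Blocks.isPPart_mul (Commute.pow_left (hzc h) j) ((Nat.dvd_prime_pow hp.out).1 (by
        rw [pow_one]
        exact orderOf_dvd_of_pow_eq_one (by
          rw [← pow_mul, mul_comm, pow_mul, show z ^ p = 1 by rw [← hx.order, pow_orderOf_eq_one],
            one_pow])) |>.imp fun _ h => h.2) hh
    have h1 := Blocks.block_orthogonality hM.2.2 hg (isPPart_one_of_regular hh')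
      (fun e => hzj j hj hjp (isConj_one_left.1 e))
      (Blocks.isPBlock_principalBlock (G := E) hM.2.2)
    rw [← hB] at h1
    rw [← h1]
    exact Finset.sum_congr rfl fun η _ => by rw [hωm]; ring
  have orth3 : ∀ j, 0 < j → j < p → ∑ η ∈ B, η.1 T ^ 3 / η.1 1 * ω η ^ j = 0 := by
    intro j hj hjp
    have hrel : ∀ e : E, ¬ p ∣ orderOf e →
        ∑ η : Cfsg.IrrCharacter E, (η.1 T ^ 2 / η.1 1 * ω η ^ j) * η.1 e = 0 := by
      intro e he
      have h1 := BlockCount.sum_irr_mul_mul_conj_div T T ((z ^ j * e)⁻¹)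
      have hempty : IsEmpty {x : E // IsConj (T * (x * T * x⁻¹)) ((z ^ j * e)⁻¹)} := by
        refine ⟨fun ⟨x, hxc⟩ => ?_⟩
        obtain ⟨c, hc⟩ := isConj_iff.1 hxc.symm
        set w := (z ^ j)⁻¹ with hw
        set h' := c * e⁻¹ * c⁻¹ with hh'
        have hwc : ∀ y : E, w * y = y * w := fun y =>
          (Commute.inv_left (Commute.pow_left (hzc y) j)).eq
        have hgw : T * (x * T * x⁻¹) = w * h' := by
          rw [← hc, mul_inv_rev, ← hwc e⁻¹, hh', ← mul_assoc c, ← hwc c, mul_assoc, mul_assoc,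
            mul_assoc]
        set g := T * (x * T * x⁻¹) with hgdef
        have hTg : T * g * T⁻¹ = g⁻¹ := by
          have hxTx : (x * T * x⁻¹)⁻¹ = x * T * x⁻¹ := by
            rw [mul_inv_rev, mul_inv_rev, inv_inv, hTinv, mul_assoc]
          rw [hgdef, mul_inv_rev, hxTx, ← mul_assoc T T, hTT, one_mul]
        have hh'reg : ¬ p ∣ orderOf h' := by
          rw [hh', ← MulAut.conj_apply, MulEquiv.orderOf_eq, orderOf_inv]
          exact he
        have hgk : g ^ k = h' := by
          rw [hgw, (show Commute w h' from hwc h').mul_pow, hkE h' hh'reg, hw, inv_pow, ← pow_mul,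
            mul_comm j k, pow_mul, hzk, one_pow, inv_one, one_mul]
        have hTh : T * h' * T⁻¹ = h'⁻¹ := by rw [← hgk, ← conj_pow, hTg, inv_pow]
        have h2 : w * h'⁻¹ = h'⁻¹ * w⁻¹ := by
          calc w * h'⁻¹ = w * (T * h' * T⁻¹) := by rw [hTh]
            _ = T * (w * h') * T⁻¹ := by simp only [← mul_assoc, hwc T]
            _ = g⁻¹ := by rw [← hgw, hTg]
            _ = h'⁻¹ * w⁻¹ := by rw [hgw, mul_inv_rev]
        rw [hwc h'⁻¹] at h2
        have h3 : w = w⁻¹ := mul_left_cancel h2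
        refine hzj j hj hjp ?_
        have h4 : (z ^ j) ^ 2 = 1 := by
          rw [hw, inv_inv] at h3
          rw [pow_two]
          exact inv_eq_iff_mul_eq_one.1 h3
        have h5 : orderOf (z ^ j) ∣ p := orderOf_dvd_of_pow_eq_one (by
          rw [← pow_mul, mul_comm, pow_mul, show z ^ p = 1 by rw [← hx.order, pow_orderOf_eq_one],
            one_pow])
        exact orderOf_eq_one_iff.1 (Nat.eq_one_of_dvd_coprimes
          ((Nat.coprime_primes hp.out Nat.prime_two).2 hodd) h5 (orderOf_dvd_of_pow_eq_one h4))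
      rw [@Nat.card_of_isEmpty _ hempty, Nat.cast_zero, mul_zero, zero_div] at h1
      rw [← h1]
      refine Finset.sum_congr rfl fun η _ => ?_
      rw [CharInt.char_inv (Char.irr_isCharacter η), Complex.conj_conj, hωm]
      ring
    have h1 := sum_block_eq_zero hM id (fun η => η.1 T ^ 2 / η.1 1 * ω η ^ j) hrel hTreg
    simp only [id_eq, ← hB] at h1
    rw [← h1]
    exact Finset.sum_congr rfl fun η _ => by ring
  -- the faithful part
  set ζ : ℂ := Complex.exp (2 * Real.pi * Complex.I / p) with hζdef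
  have hζ := Complex.isPrimitiveRoot_exp p hp.out.ne_zero
  have hζp : ζ ^ p = 1 := hζ.pow_eq_one
  have hζ1 : ζ ≠ 1 := hζ.ne_one hp.out.one_lt
  have transfer : ∀ F : Cfsg.IrrCharacter E → ℂ,
      (∀ j, 0 < j → j < p → ∑ η ∈ B, F η * ω η ^ j = 0) →
      ∑ η ∈ B.filter (fun η => ω η = ζ), F η =
        ∑ ξ ∈ Finset.univ.filter (· ∈ Cfsg.principalBlock M G), F (infl ξ) := by
    intro F hF
    rw [← hBinfl]
    have h1 : ∀ ζ' : ℂ, ζ' ^ p = 1 →
        (p : ℂ) * ∑ η ∈ B.filter (fun η => ω η = ζ'), F η =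
          ∑ η : Cfsg.IrrCharacter E, (if η ∈ B then F η else 0) := by
      intro ζ' hζ'
      rw [← natCast_mul_sum_filter_eq (fun η => if η ∈ B then F η else 0) ω hωp (fun j hj hjp => by
        simp only [ite_mul, zero_mul]
        rw [← Finset.sum_filter, Finset.filter_mem_eq_inter, Finset.univ_inter]
        exact hF j hj hjp) hζ']
      congr 1
      rw [← Finset.sum_filter, Finset.filter_filter]
      refine Finset.sum_congr (Finset.ext fun η => ?_) fun _ _ => rfl
      simp [hB, and_comm]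
    exact mul_left_cancel₀ (Nat.cast_ne_zero.2 hp.out.ne_zero)
      ((h1 ζ hζp).trans (h1 1 (one_pow p)).symm)
  have T1 := transfer (fun η => η.1 1 * η.1 1) (fun j h1 h2 => by
    simpa only [hconj1] using orth 1 1 hone hone j h1 h2)
  have T2 := transfer (fun η => η.1 T * η.1 1) (fun j h1 h2 => by
    simpa only [hconj1] using orth T 1 hTreg hone j h1 h2)
  have T3 := transfer (fun η => η.1 T * η.1 T) (fun j h1 h2 => by
    simpa only [hconjT] using orth T T hTreg hTreg j h1 h2)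
  have T4 := transfer (fun η => η.1 T ^ 3 / η.1 1) orth3
  set BG := Finset.univ.filter (· ∈ Cfsg.principalBlock M G) with hBG
  set L := B.filter (fun η => ω η = ζ) with hL
  set s : ℂ := (d.s : ℂ) with hs
  set v : ℂ := d.Φ t with hv
  have hsv : s - v ≠ 0 := sub_ne_zero.2 fun e => d.Φ_ne t (fun e1 => by simp [e1] at ht) e.symm
  have hLB : ∀ η ∈ L, η ∈ Cfsg.principalBlock M E := fun η hη =>
    (Finset.mem_filter.1 (Finset.mem_filter.1 hη).1).2
  choose a b hab using fun η : {η // η ∈ L} => hint η.1 (hLB η.1 η.2)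
  have hd1 : ∀ η : {η // η ∈ L}, η.1.1 1 = a η + b η * s := fun η => by
    rw [hab η 1 hone, map_one, d.Φ_one]
  have he1 : ∀ η : {η // η ∈ L}, η.1.1 T = a η + b η * v := fun η => by
    rw [hab η T hTreg, hπT]
  have hG1 : ∀ ξ ∈ BG, ξ.1 1 = d.a ξ + d.b ξ * s := fun ξ hξ => by
    rw [d.apply_eq ξ (Finset.mem_filter.1 hξ).2 1 (by simp [hp.out.ne_one]), d.Φ_one]
  have hGt : ∀ ξ ∈ BG, ξ.1 t = d.a ξ + d.b ξ * v := fun ξ hξ =>
    d.apply_eq ξ (Finset.mem_filter.1 hξ).2 t htreg
  have hi1 : ∀ ξ, (infl ξ).1 1 = ξ.1 1 := fun ξ => by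
    show ξ.1 (π 1) = _; rw [map_one]
  have hiT : ∀ ξ, (infl ξ).1 T = ξ.1 t := fun ξ => by
    show ξ.1 (π T) = _; rw [hπT]
  set Sa : ℂ := ∑ η : {η // η ∈ L}, (a η : ℂ) ^ 2 with hSa
  set Sab : ℂ := ∑ η : {η // η ∈ L}, (a η : ℂ) * b η with hSab
  set Sb : ℂ := ∑ η : {η // η ∈ L}, (b η : ℂ) ^ 2 with hSb
  have Ga : ∑ ξ ∈ BG, (d.a ξ : ℂ) ^ 2 = (d.m : ℂ) + 1 := by exact_mod_cast d.sum_aa
  have Gab : ∑ ξ ∈ BG, (d.a ξ : ℂ) * d.b ξ = (d.m : ℂ) := by exact_mod_cast d.sum_ab
  have Gb : ∑ ξ ∈ BG, (d.b ξ : ℂ) ^ 2 = (d.m : ℂ) + 1 := by exact_mod_cast d.sum_bb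
  have quad : ∀ {ι : Type u} (S : Finset ι) (A Bc : ι → ℂ) (x y : ℂ),
      ∑ i ∈ S, (A i + Bc i * x) * (A i + Bc i * y) =
        ∑ i ∈ S, A i ^ 2 + (x + y) * ∑ i ∈ S, A i * Bc i + x * y * ∑ i ∈ S, Bc i ^ 2 := by
    intro ι S A Bc x y
    rw [Finset.mul_sum, Finset.mul_sum, ← Finset.sum_add_distrib, ← Finset.sum_add_distrib]
    exact Finset.sum_congr rfl fun i _ => by ring
  have Eq : ∀ x y : ℂ, ∀ (fE : Cfsg.IrrCharacter E → ℂ) (fG : Cfsg.IrrCharacter G → ℂ),
      (∀ η : {η // η ∈ L}, fE η.1 = (a η + b η * x) * (a η + b η * y)) →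
      (∀ ξ ∈ BG, fG ξ = (d.a ξ + d.b ξ * x) * (d.a ξ + d.b ξ * y)) →
      ∑ η ∈ L, fE η = ∑ ξ ∈ BG, fG ξ →
      (Sa - ((d.m : ℂ) + 1)) + (x + y) * (Sab - (d.m : ℂ)) +
        x * y * (Sb - ((d.m : ℂ) + 1)) = 0 := by
    intro x y fE fG h1 h2 h3
    rw [← Finset.sum_coe_sort L, Finset.sum_congr rfl fun η _ => h1 η, Finset.sum_congr rfl h2,
      quad, quad, Ga, Gab, Gb] at h3
    rw [hSa, hSab, hSb]
    linear_combination h3
  have E1 := Eq s s _ _ (fun η => by rw [hd1 η]) (fun ξ hξ => by rw [hi1, hG1 ξ hξ]) T1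
  have E2 := Eq v s _ _ (fun η => by rw [hd1 η, he1 η])
    (fun ξ hξ => by rw [hi1, hiT, hG1 ξ hξ, hGt ξ hξ]) T2
  have E3 := Eq v v _ _ (fun η => by rw [he1 η]) (fun ξ hξ => by rw [hiT, hGt ξ hξ]) T3
  have hY : (Sab - (d.m : ℂ)) + s * (Sb - ((d.m : ℂ) + 1)) = 0 :=
    (mul_eq_zero.1 (show (s - v) * ((Sab - (d.m : ℂ)) + s * (Sb - ((d.m : ℂ) + 1))) = 0 by
      linear_combination E1 - E2)).resolve_left hsv
  have hY' : (Sab - (d.m : ℂ)) + v * (Sb - ((d.m : ℂ) + 1)) = 0 :=
    (mul_eq_zero.1 (show (s - v) * ((Sab - (d.m : ℂ)) + v * (Sb - ((d.m : ℂ) + 1))) = 0 by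
      linear_combination E2 - E3)).resolve_left hsv
  have hZ : Sb - ((d.m : ℂ) + 1) = 0 :=
    (mul_eq_zero.1 (show (s - v) * (Sb - ((d.m : ℂ) + 1)) = 0 by
      linear_combination hY - hY')).resolve_left hsv
  have hYY : Sab - (d.m : ℂ) = 0 := by linear_combination hY - s * hZ
  have hX : Sa - ((d.m : ℂ) + 1) = 0 := by
    linear_combination E1 - 2 * s * hYY - s * s * hZ
  have hne : ∀ η : {η // η ∈ L}, a η + b η * d.s ≠ 0 := by
    intro η h0
    apply Char.IsIrrCharacter.apply_one_ne_zero η.1.2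
    rw [hd1 η, hs]
    exact_mod_cast h0
  have hneG : ∀ ξ ∈ BG, (d.a ξ : ℂ) + d.b ξ * s ≠ 0 := fun ξ hξ e =>
    Char.IsIrrCharacter.apply_one_ne_zero ξ.2 ((hG1 ξ hξ).trans e)
  have cube : ∀ A Bc : ℂ, A + Bc * s ≠ 0 → (A + Bc * v) ^ 3 / (A + Bc * s) =
      (A + Bc * s) * (A + Bc * s) - 3 * (s - v) * (A * Bc) +
        (3 * (s - v) ^ 2 - 3 * (s - v) * s) * Bc ^ 2 -
        (s - v) ^ 3 * (Bc ^ 3 / (A + Bc * s)) := by
    intro A Bc hne0
    field_simp
    ring
  have hcubeC : ∑ η : {η // η ∈ L}, (b η : ℂ) ^ 3 / ((a η : ℂ) + b η * s) =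
      1 / s + (d.m : ℂ) / (1 + s) := by
    have hG3 : ∑ ξ ∈ BG, (d.b ξ : ℂ) ^ 3 / ((d.a ξ : ℂ) + d.b ξ * s) =
        1 / s + (d.m : ℂ) / (1 + s) := by
      have h1 := d.sum_cube
      push_cast at h1
      exact h1
    have hneL : ∀ η : {η // η ∈ L}, (a η : ℂ) + b η * s ≠ 0 := fun η =>
      hd1 η ▸ Char.IsIrrCharacter.apply_one_ne_zero η.1.2
    have h4 := T4
    rw [← Finset.sum_coe_sort L, Finset.sum_congr rfl fun η _ => by
        rw [hd1 η, he1 η, cube (a η : ℂ) (b η : ℂ) (hneL η)],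
      Finset.sum_congr (s₁ := BG) rfl fun ξ hξ => by
        rw [hi1, hiT, hG1 ξ hξ, hGt ξ hξ, cube (d.a ξ : ℂ) (d.b ξ : ℂ) (hneG ξ hξ)]] at h4
    simp only [Finset.sum_sub_distrib, Finset.sum_add_distrib, ← Finset.mul_sum] at h4
    rw [quad, quad, ← hSa, ← hSab, ← hSb, Ga, Gab, Gb, hG3] at h4
    apply mul_left_cancel₀ (pow_ne_zero 3 hsv)
    linear_combination -h4 + hX + (2 * s - 3 * (s - v)) * hYY +
      (s * s + (3 * (s - v) ^ 2 - 3 * (s - v) * s)) * hZ
  refine no_exceptional hodd d.m d.s d.s_ne_zero d.s_ne_one d.s_ne_neg_one d.dvd_s a b ?_ ?_ ?_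
    hne (fun η => ?_) ?_
  · apply Int.cast_injective (α := ℂ); push_cast; linear_combination hX
  · apply Int.cast_injective (α := ℂ); push_cast; linear_combination hYY
  · apply Int.cast_injective (α := ℂ); push_cast; linear_combination hZ
  · have hdeg := (centralScalar_spec hx η.1).2.2
      (by rw [← hω, (Finset.mem_filter.1 η.2).2]; exact hζ1)
    have h1 : ((Char.degree η.1 : ℤ)) = a η + b η * d.s := by
      apply Int.cast_injective (α := ℂ)
      push_cast
      rw [← Char.apply_one_eq_degree, hd1 η]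
    rw [← h1]
    exact Int.natCast_dvd_natCast.2 hdeg
  · apply Rat.cast_injective (α := ℂ)
    push_cast
    exact hcubeC

end Cfsg.Agent.SmithTyrer
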